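import Cfsg.Agent.TwoNilCent.Uniq
import Cfsg.Agent.KGroup.CharTwo
import Cfsg.Agent.Invol.CharTwoPType
import Cfsg.Agent.S0215
import Cfsg.Prelude.Def_Involutions

/-!
# Groups with solvable involution centralisers and controlled central involutions: first facts
-/

set_option autoImplicit false
set_option linter.style.haveILetI false
set_option linter.unusedSectionVars false

namespace CfsgLib.ZCGroup

open Subgroup
open CfsgLib.TwoNilCent (core Big odd_core core_le elem_of_sq sq_of_elem Four core_conj core_le_gen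
  map_gen_le allComplete conj_into)

variable {G : Type*} [Group G] [Finite G]

/-- The centraliser of every involution is solvable. -/
def Solv (G : Type*) [Group G] : Prop :=
  ∀ t : G, orderOf t = 2 → Group.IsSolvable ↥(centralizer ({t} : Set G))

/-- Some nontrivial group of central elements of square one of `S` has centraliser in `N(S)`. -/
def CentralCtl (S : Subgroup G) : Prop :=
  ∃ Z₀ : Subgroup G, Z₀ ≠ ⊥ ∧ (∀ x ∈ Z₀, x * x = 1) ∧ Z₀ ≤ S ∧
    (∀ s ∈ S, ∀ x ∈ Z₀, Commute s x) ∧ centralizer (Z₀ : Set G) ≤ normalizer (S : Set G)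

/-! ### Conjugation -/

/-- An element mapping a subgroup into itself normalises it. -/
theorem mem_normalizer_of_map_le {W : Subgroup G} {g : G}
    (h : W.map (MulAut.conj g).toMonoidHom ≤ W) : g ∈ normalizer (W : Set G) := by
  have e : W.map (MulAut.conj g).toMonoidHom = W := eq_of_le_of_card_ge h
    (card_map_of_injective (f := (MulAut.conj g).toMonoidHom) (MulAut.conj g).injective).ge
  refine mem_normalizer_iff.2 fun x => ⟨fun hx => h ⟨x, hx, rfl⟩, fun hx => ?_⟩
  obtain ⟨y, hy, he⟩ := e.ge hx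
  exact (MulAut.conj g).injective he ▸ hy

theorem map_conj_centralizer (Z : Subgroup G) (g : G) :
    centralizer ((Z.map (MulAut.conj g).toMonoidHom : Subgroup G) : Set G) ≤
      (centralizer (Z : Set G)).map (MulAut.conj g).toMonoidHom := by
  intro c hc
  refine ⟨g⁻¹ * c * g, mem_centralizer_iff.2 fun x hx => ?_, show g * (g⁻¹ * c * g) * g⁻¹ = c by group⟩
  have h : g * x * g⁻¹ * c = c * (g * x * g⁻¹) := mem_centralizer_iff.1 hc _ ⟨x, hx, rfl⟩
  calc x * (g⁻¹ * c * g) = g⁻¹ * (g * x * g⁻¹ * c) * g := by group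
    _ = g⁻¹ * c * g * x := by rw [h]; group

theorem centralCtl_map {S : Subgroup G} (h : CentralCtl S) (g : G) :
    CentralCtl (S.map (MulAut.conj g).toMonoidHom) := by
  obtain ⟨Z, hZ1, hZ2, hZS, hZc, hZN⟩ := h
  refine ⟨Z.map (MulAut.conj g).toMonoidHom,
    fun e => hZ1 ((map_eq_bot_iff_of_injective Z (f := (MulAut.conj g).toMonoidHom) (MulAut.conj g).injective).1 e),
    ?_, map_mono hZS, ?_, ?_⟩
  · rintro _ ⟨x, hx, rfl⟩
    rw [← map_mul, hZ2 x hx, map_one]
  · rintro _ ⟨s, hs, rfl⟩ _ ⟨x, hx, rfl⟩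
    exact (hZc s hs x hx).map _
  · refine (map_conj_centralizer Z g).trans ((map_mono hZN).trans ?_)
    exact le_normalizer_map _

theorem centralCtl_all {S : Sylow 2 G} (h : CentralCtl (S : Subgroup G)) (T : Sylow 2 G) :
    CentralCtl (T : Subgroup G) := by
  haveI : Fact (Nat.Prime 2) := ⟨Nat.prime_two⟩
  obtain ⟨g, hg⟩ := MulAction.exists_smul_eq G S T
  rw [← hg]
  exact centralCtl_map h g

/-- A conjugate of a subgroup is in a Sylow 2-subgroup containing a given involution. -/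
theorem exists_conj_mem (S : Sylow 2 G) {x : G} (hx : orderOf x = 2) :
    ∃ b : G, b * x * b⁻¹ ∈ (S : Subgroup G) := by
  haveI : Fact (Nat.Prime 2) := ⟨Nat.prime_two⟩
  obtain ⟨R, hR⟩ := (IsPGroup.of_card (n := 1) (by rw [Nat.card_zpowers, hx, pow_one]) :
    IsPGroup 2 (zpowers x)).exists_le_sylow
  obtain ⟨b, hb⟩ := MulAction.exists_smul_eq G R S
  refine ⟨b, ?_⟩
  rw [← hb]
  exact smul_mem_pointwise_smul x (MulAut.conj b) (R : Subgroup G) (hR (mem_zpowers x))

/-- A 2-subgroup normalising a Sylow 2-subgroup lies in it. -/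
theorem le_sylow_of_le_normalizer (S : Sylow 2 G) {P : Subgroup G} (hP : IsPGroup 2 P)
    (h : P ≤ normalizer ((S : Subgroup G) : Set G)) : P ≤ (S : Subgroup G) :=
  le_sup_left.trans (S.3 (hP.to_sup_of_normal_right' S.2 h) le_sup_right).le

theorem mem_sylow_of_normalizer (S : Sylow 2 G) {x : G} (hx : x * x = 1)
    (h : x ∈ normalizer ((S : Subgroup G) : Set G)) : x ∈ (S : Subgroup G) := by
  refine le_sylow_of_le_normalizer S (P := zpowers x) ?_ (zpowers_le.2 h) (mem_zpowers x)
  rintro ⟨g, hg⟩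
  exact ⟨1, Subtype.ext (by simpa using (CharTwoPType.elementary_zpowers hx).2 g hg)⟩

/-! ### The odd cores of the centralisers -/

theorem core_props (hC : Solv G) (a : G) (ha : SFTCor.Good 2 a) :
    core a ≤ centralizer ({a} : Set G) ∧ ¬ 2 ∣ Nat.card ↥(core a) ∧ Group.IsSolvable ↥(core a) := by
  haveI := hC a ha.1
  exact ⟨core_le a, (odd_core a).not_two_dvd_nat,
    Group.isSolvable_of_isSolvable_injective (Subgroup.inclusion_injective (core_le a))⟩

theorem balance (hC : Solv G) {a b : G} (ha : orderOf a = 2) (hb : orderOf b = 2)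
    (hab : a * b = b * a) : core a ⊓ centralizer ({b} : Set G) ≤ core b := by
  haveI : Fact (Nat.Prime 2) := ⟨Nat.prime_two⟩
  exact Signalizer.centralizerPPrimeCore_inf_le (by rw [sq]; exact Invol.mul_self_eq_one ha) hab
    (hC b hb)

theorem gen_complete (hC : Solv G) {A : Subgroup G} (hA : Big A) :
    Odd (Nat.card ↥(SFTCor.gen core A)) ∧
      ∀ a ∈ A, a ≠ 1 → SFTCor.gen core A ⊓ centralizer {a} = core a := by
  haveI : Fact (Nat.Prime 2) := ⟨Nat.prime_two⟩
  have h := SFTCor.complete (p := 2) (θ := core) (fun a ha => core_props hC a ha)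
    (fun a g _ => core_conj a g) (fun a b ha hb hab => balance hC ha.1 hb.1 hab) allComplete hA.1
    (by norm_num; exact hA.2)
  exact ⟨Nat.not_even_iff_odd.1 fun he => h.1 (even_iff_two_dvd.1 he), h.2.1⟩

theorem gen_eq (hC : Solv G) {B A : Subgroup G} (hA : Big A) (hBA : B ≤ A)
    (h4 : 4 ≤ Nat.card B) : SFTCor.gen core B = SFTCor.gen core A := by
  haveI : Fact (Nat.Prime 2) := ⟨Nat.prime_two⟩
  exact SFTCor.gen_eq (p := 2) (θ := core) (fun a ha => core_props hC a ha)
    (fun a g _ => core_conj a g) (fun a b ha hb hab => balance hC ha.1 hb.1 hab) allComplete hA.1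
    (by norm_num; exact hA.2) hBA (by norm_num; exact h4)

/-- All elementary abelian subgroups of order at least 8 of one Sylow 2-subgroup give the same
subgroup. -/
theorem gen_eq_big (hC : Solv G) {S : Sylow 2 G} {A B : Subgroup G} (hA : Big A) (hB : Big B)
    (hAS : A ≤ (S : Subgroup G)) (hBS : B ≤ (S : Subgroup G)) :
    SFTCor.gen core A = SFTCor.gen core B := by
  obtain ⟨F⟩ := TwoNilCent.nonempty_four S hA hAS
  have key : ∀ C : Subgroup G, Big C → C ≤ (S : Subgroup G) →
      SFTCor.gen core C = SFTCor.gen core F.E := by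
    intro C hCb hCS
    obtain ⟨L, hL, -, hEL, h4, -⟩ := F.connect hCb hCS
    rw [← gen_eq hC hCb inf_le_left h4, gen_eq hC hL inf_le_right h4,
      ← gen_eq hC hL hEL F.card.ge]
  rw [key A hA hAS, key B hB hBS]

/-- The normaliser of a Sylow 2-subgroup fixes its subgroup. -/
theorem normalizer_le_normalizer_gen (hC : Solv G) {S : Sylow 2 G} {A : Subgroup G} (hA : Big A)
    (hAS : A ≤ (S : Subgroup G)) :
    normalizer ((S : Subgroup G) : Set G) ≤ normalizer (SFTCor.gen core A : Set G) := fun g hg => by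
  refine mem_normalizer_of_map_le ((map_gen_le A g).trans (le_of_eq ?_))
  refine gen_eq_big hC (hA.map g) hA ?_ hAS
  rintro _ ⟨x, hx, rfl⟩
  exact (mem_normalizer_iff.1 hg x).1 (hAS hx)

/-! ### Elementary abelian subgroups -/

theorem elem_dichotomy {A : Subgroup G} (hA : Cfsg.IsElementaryAbelian 2 A) :
    Nat.card A ≤ 4 ∨ Big A := by
  haveI : Fact (Nat.Prime 2) := ⟨Nat.prime_two⟩
  obtain ⟨k, hk⟩ := IsPGroup.iff_card.1 (Signalizer.isPGroup hA)
  by_cases h : k ≤ 2
  · exact Or.inl (hk ▸ (Nat.pow_le_pow_right two_pos h).trans (by norm_num))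
  · exact Or.inr ⟨hA, hk ▸ le_trans (by norm_num) (Nat.pow_le_pow_right two_pos (show 3 ≤ k by omega))⟩

/-- An involution of `S` outside an elementary abelian subgroup of order at least 4 which it
centralises lies in one of order at least 8. -/
theorem big_of_invol {S K : Subgroup G} (hK : Cfsg.IsElementaryAbelian 2 K) (hKS : K ≤ S)
    (h4 : 4 ≤ Nat.card K) {t : G} (ht : orderOf t = 2) (htS : t ∈ S)
    (hc : ∀ k ∈ K, Commute t k) (htK : t ∉ K) :
    ∃ L : Subgroup G, Big L ∧ L ≤ S ∧ t ∈ L ∧ K ≤ L := by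
  haveI : Fact (Nat.Prime 2) := ⟨Nat.prime_two⟩
  have hL : Cfsg.IsElementaryAbelian 2 (zpowers t ⊔ K : Subgroup G) := by
    refine OddCores.elementary_sup (CharTwoPType.elementary_zpowers (Invol.mul_self_eq_one ht)) hK ?_
    intro x hx y hy
    obtain ⟨i, rfl⟩ := mem_zpowers_iff.1 hx
    exact ((hc y hy).zpow_left i).eq
  refine ⟨_, ⟨hL, ?_⟩, sup_le (zpowers_le.2 htS) hKS, mem_sup_left (mem_zpowers t),
    le_sup_right⟩
  rw [Signalizer.card_sup_zpowers hL le_sup_right (mem_sup_left (mem_zpowers t)) htK]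
  omega

/-- The central elements of square one of a subgroup. -/
def omegaZ (S : Subgroup G) : Subgroup G where
  carrier := {x | x ∈ S ∧ (∀ s ∈ S, Commute s x) ∧ x * x = 1}
  one_mem' := ⟨one_mem S, fun s _ => Commute.one_right s, mul_one 1⟩
  mul_mem' := fun {a b} ha hb => ⟨mul_mem ha.1 hb.1,
    fun s hs => (ha.2.1 s hs).mul_right (hb.2.1 s hs), by
    rw [(hb.2.1 a ha.1).symm.mul_mul_mul_comm, ha.2.2, hb.2.2, one_mul]⟩
  inv_mem' := fun {a} ha => ⟨inv_mem ha.1, fun s hs => (ha.2.1 s hs).inv_right, by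
    rw [← mul_inv_rev, ha.2.2, inv_one]⟩

theorem mem_omegaZ {S : Subgroup G} {x : G} :
    x ∈ omegaZ S ↔ x ∈ S ∧ (∀ s ∈ S, Commute s x) ∧ x * x = 1 := Iff.rfl

theorem omegaZ_le (S : Subgroup G) : omegaZ S ≤ S := fun _ h => h.1

theorem omegaZ_elem (S : Subgroup G) : Cfsg.IsElementaryAbelian 2 (omegaZ S) :=
  elem_of_sq fun _ h => h.2.2

theorem omegaOne_eq_omegaZ (S : Subgroup G) :
    Cfsg.omegaOne 2 (S ⊓ centralizer (S : Set G)) = omegaZ S := by
  refine le_antisymm ((closure_le _).2 ?_) fun x hx => subset_closure ?_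
  · rintro x ⟨⟨hx, hxc⟩, h2⟩
    exact ⟨hx, fun s hs => mem_centralizer_iff.1 hxc s hs, by rwa [← sq]⟩
  · exact ⟨⟨hx.1, mem_centralizer_iff.2 fun s hs => hx.2.1 s hs⟩, by rw [sq]; exact hx.2.2⟩

/-! ### Isolated involutions -/

theorem false_of_isolated (hO : Cfsg.pPrimeCore 2 G = ⊥) (hO2 : Cfsg.pCore 2 G = ⊥) (S : Sylow 2 G)
    {u : G} (hu : orderOf u = 2) (huS : u ∈ (S : Subgroup G))
    (hiso : ∀ g : G, g * u * g⁻¹ ∈ (S : Subgroup G) → g * u * g⁻¹ = u) : False := by
  haveI : Fact (Nat.Prime 2) := ⟨Nat.prime_two⟩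
  obtain ⟨N, hN, hodd, hc⟩ := Cfsg.Agent.S0215.result S u hu huS hiso
  have hN1 : N ≤ ⊥ := hO ▸ Solvable.le_pPrimeCore 2 hN (Nat.coprime_two_right.2 hodd)
  have hcen : ∀ g : G, Commute u g := fun g => by
    have h1 := mem_bot.1 (hN1 (hc g))
    rwa [mul_inv_eq_one, mul_inv_eq_iff_eq_mul] at h1
  have hn : (zpowers u).Normal := ⟨fun x hx g => by
    obtain ⟨i, rfl⟩ := mem_zpowers_iff.1 hx
    rw [((hcen g).zpow_left i).symm.eq, mul_inv_cancel_right]
    exact zpow_mem (mem_zpowers u) i⟩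
  have h : zpowers u ≤ ⊥ := hO2 ▸ Solvable.le_pCore 2 hn
    (IsPGroup.of_card (n := 1) (by rw [Nat.card_zpowers, hu, pow_one]))
  exact Invol.ne_one hu (mem_bot.1 (h (mem_zpowers u)))

/-! ### Characteristic two type -/

theorem charTwoType_of_cores (hC : Solv G) (h2 : Even (Nat.card G))
    (h : ∀ t : G, orderOf t = 2 → core t = ⊥) : Cfsg.IsCharacteristicTwoType G := by
  haveI : Fact (Nat.Prime 2) := ⟨Nat.prime_two⟩
  refine CharP.isCharacteristicTwoType_of_forall h2 fun z hz => ?_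
  haveI := hC z hz
  exact Fitting.centralizer_pCore_le ((map_eq_bot_iff_of_injective
    (f := (centralizer ({z} : Set G)).subtype) _ (subtype_injective _)).1 (h z hz))

/-- Odd cores of normal subgroups of groups with trivial odd core are trivial. -/
theorem pPrimeCore_normal_eq_bot {K : Subgroup G} [hK : K.Normal]
    (h : Cfsg.pPrimeCore 2 G = ⊥) : Cfsg.pPrimeCore 2 ↥K = ⊥ := by
  haveI : Fact (Nat.Prime 2) := ⟨Nat.prime_two⟩
  haveI : (Cfsg.pPrimeCore 2 ↥K).Characteristic :=
    characteristic_iff_map_eq.2 fun e => Terminal.map_pPrimeCore e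
  refine (map_eq_bot_iff_of_injective _ K.subtype_injective).1 (le_bot_iff.1 (h ▸ ?_))
  refine Solvable.le_pPrimeCore 2 inferInstance ?_
  rw [card_map_of_injective K.subtype_injective]
  exact Solvable.coprime_card_pPrimeCore 2

theorem pCore_normal_eq_bot {K : Subgroup G} [hK : K.Normal]
    (h : Cfsg.pCore 2 G = ⊥) : Cfsg.pCore 2 ↥K = ⊥ := by
  haveI : Fact (Nat.Prime 2) := ⟨Nat.prime_two⟩
  haveI : (Cfsg.pCore 2 ↥K).Characteristic := by
    refine characteristic_iff_map_le.2 fun e => Solvable.le_pCore 2 ?_ ((Solvable.isPGroup_pCore 2).map _)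
    exact (Solvable.pCore_normal 2).map _ e.surjective
  refine (map_eq_bot_iff_of_injective _ K.subtype_injective).1 (le_bot_iff.1 (h ▸ ?_))
  exact Solvable.le_pCore 2 inferInstance ((Solvable.isPGroup_pCore 2).map _)

theorem solv_subgroup (hC : Solv G) (K : Subgroup G) : Solv ↥K := fun t ht => by
  haveI := hC (t : G) (by rw [orderOf_coe, ht])
  let f : ↥(centralizer ({t} : Set ↥K)) →* ↥(centralizer ({(t : G)} : Set G)) :=
    (K.subtype.comp (centralizer ({t} : Set ↥K)).subtype).codRestrict _ fun c =>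
      mem_centralizer_singleton_iff.2 (congrArg Subtype.val (mem_centralizer_singleton_iff.1 c.2))
  exact Group.isSolvable_of_isSolvable_injective (f := f) fun a b hab =>
    Subtype.ext (Subtype.ext (by simpa [f] using congrArg Subtype.val hab))

/-- The cores of centralisers in a normal subgroup lie in those of the group. -/
theorem core_subgroup_eq_bot {K : Subgroup G} [hK : K.Normal] {t : ↥K} (h : core (t : G) = ⊥) :
    core t = ⊥ := by
  haveI : Fact (Nat.Prime 2) := ⟨Nat.prime_two⟩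
  set C := centralizer ({(t : G)} : Set G)
  set L := K.subgroupOf C
  have h1 : Cfsg.pPrimeCore 2 ↥L = ⊥ := pPrimeCore_normal_eq_bot
    ((map_eq_bot_iff_of_injective (f := C.subtype) _ (subtype_injective _)).1 h)
  let e : ↥L ≃* ↥(centralizer ({t} : Set ↥K)) :=
    { toFun := fun c => ⟨⟨((c : C) : G), c.2⟩, mem_centralizer_singleton_iff.2
        (Subtype.ext (mem_centralizer_singleton_iff.1 (c : C).2))⟩
      invFun := fun c => ⟨⟨((c : K) : G), mem_centralizer_singleton_iff.2
        (congrArg Subtype.val (mem_centralizer_singleton_iff.1 c.2))⟩, (c : K).2⟩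
      left_inv := fun _ => rfl
      right_inv := fun _ => rfl
      map_mul' := fun _ _ => rfl }
  show (Cfsg.pPrimeCore 2 ↥(centralizer ({t} : Set ↥K))).map _ = ⊥
  rw [← Terminal.map_pPrimeCore e, h1, Subgroup.map_bot, Subgroup.map_bot]

/-! ### Strong embedding -/

/-- A proper subgroup containing `N(S)` and the centralisers of the involutions of `S` is strongly
embedded. -/
theorem stronglyEmbedded_of (S : Sylow 2 G) (hS : (S : Subgroup G) ≠ ⊥) (M : Subgroup G)
    (hne : M ≠ ⊤) (hN : normalizer ((S : Subgroup G) : Set G) ≤ M)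
    (hCM : ∀ t ∈ (S : Subgroup G), orderOf t = 2 → centralizer ({t} : Set G) ≤ M) :
    Cfsg.IsStronglyEmbedded M := by
  haveI : Fact (Nat.Prime 2) := ⟨Nat.prime_two⟩
  have hSM : (S : Subgroup G) ≤ M := le_normalizer.trans hN
  obtain ⟨t₀, ht₀S, ht₀⟩ := CharP.exists_orderOf_two S.2 hS
  refine ⟨hne, even_iff_two_dvd.2 (ht₀ ▸ M.orderOf_dvd_natCard (hSM ht₀S)), fun g hg => ?_⟩
  have hcent : ∀ x ∈ M, orderOf x = 2 → centralizer ({x} : Set G) ≤ M := by
    intro x hx ho c hc
    obtain ⟨h, hh, h1⟩ := conj_into hSM (zpowers_le.2 hx)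
      (IsPGroup.of_card (n := 1) (by rw [Nat.card_zpowers, ho, pow_one]))
    have h2 : h * c * h⁻¹ ∈ M := hCM _ (h1 x (mem_zpowers x)) (by rw [Invol.orderOf_conj_eq, ho])
      (mem_centralizer_singleton_iff.2 (by
        rw [conj_mul, conj_mul, mem_centralizer_singleton_iff.1 hc]))
    have := mul_mem (mul_mem (inv_mem hh) h2) hh
    rwa [show h⁻¹ * (h * c * h⁻¹) * h = c by group] at this
  rw [← Nat.not_even_iff_odd, even_iff_two_dvd]
  intro hdvd
  apply hg
  obtain ⟨⟨x, hxM, hxg⟩, hox'⟩ := exists_prime_orderOf_dvd_card' 2 hdvd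
  have hox : orderOf x = 2 := (Subgroup.orderOf_coe _).trans hox'
  obtain ⟨y, hy, rfl⟩ := hxg
  have hoy : orderOf y = 2 := by
    rw [← hox]
    exact (orderOf_injective (MulAut.conj g).toMonoidHom (MulAut.conj g).injective y).symm
  obtain ⟨h, hh, h1⟩ := conj_into hSM (zpowers_le.2 hy)
    (IsPGroup.of_card (n := 1) (by rw [Nat.card_zpowers, hoy, pow_one]))
  set a := g * h⁻¹ with ha
  set s := h * y * h⁻¹ with hs
  have hsS : s ∈ (S : Subgroup G) := h1 y (mem_zpowers y)
  have hxa : (MulAut.conj g).toMonoidHom y = a * s * a⁻¹ := by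
    show g * y * g⁻¹ = _
    rw [ha, hs]; group
  rw [hxa] at hxM hox
  haveI := (nontrivial_iff_ne_bot _).2 hS
  haveI := S.2.center_nontrivial
  obtain ⟨z', hz', hz'o⟩ := CharP.exists_orderOf_two
    (U := (Subgroup.center (S : Subgroup G)).map (S : Subgroup G).subtype)
    (S.2.to_le (map_subtype_le _)) (by
      rw [Ne, map_eq_bot_iff_of_injective _ (subtype_injective _)]
      exact (nontrivial_iff_ne_bot _).1 inferInstance)
  obtain ⟨z, hz, rfl⟩ := hz'
  have hzc : ∀ u ∈ (S : Subgroup G), Commute u ((S : Subgroup G).subtype z) := fun u hu =>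
    congrArg Subtype.val (Subgroup.mem_center_iff.1 hz ⟨u, hu⟩)
  have hwc : Commute (a * s * a⁻¹) (a * ((S : Subgroup G).subtype z) * a⁻¹) :=
    (hzc s hsS).map (MulAut.conj a).toMonoidHom
  have hwM : a * ((S : Subgroup G).subtype z) * a⁻¹ ∈ M :=
    hcent _ hxM hox (mem_centralizer_singleton_iff.2 hwc.eq.symm)
  have hQM : ((a • S : Sylow 2 G) : Subgroup G) ≤ M := by
    rintro _ ⟨u, hu, rfl⟩
    exact hcent _ hwM (by rw [Invol.orderOf_conj_eq, hz'o]) (mem_centralizer_singleton_iff.2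
      ((hzc u hu).map (MulAut.conj a).toMonoidHom).eq)
  obtain ⟨k, hk⟩ := MulAction.exists_smul_eq M (S.subtype hSM) ((a • S : Sylow 2 G).subtype hQM)
  have hak : a⁻¹ * k ∈ M := by
    refine hN (Sylow.smul_eq_iff_mem_normalizer.mp ?_)
    rw [mul_smul, inv_smul_eq_iff]
    rw [Sylow.smul_subtype] at hk
    exact Sylow.subtype_injective hk
  have := mul_mem (mul_mem k.2 (inv_mem hak)) hh
  simpa [ha, mul_assoc] using this

/-- A strongly embedded subgroup meets a normal subgroup not in it, of even order, in a strongly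
embedded subgroup. -/
theorem stronglyEmbedded_subgroupOf {M K : Subgroup G} (hM : Cfsg.IsStronglyEmbedded M)
    (hKM : ¬ K ≤ M) (h2 : Even (Nat.card ↥(M ⊓ K))) :
    Cfsg.IsStronglyEmbedded (M.subgroupOf K) := by
  refine ⟨fun h => hKM (subgroupOf_eq_top.1 h), ?_, fun g hg => ?_⟩
  · rwa [← card_map_of_injective (K := M.subgroupOf K) (f := K.subtype) K.subtype_injective,
      subgroupOf_map_subtype]
  · refine (hM.2.2 (g : G) hg).of_dvd_nat ?_
    refine (card_map_of_injective (f := K.subtype) K.subtype_injective).symm.dvd.trans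
      (card_dvd_of_le ?_)
    rintro _ ⟨x, ⟨hx, y, hy, rfl⟩, rfl⟩
    exact ⟨hx, (y : G), hy, rfl⟩

end CfsgLib.ZCGroup
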