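import Cfsg.Agent.ZCGroup.Three
import Cfsg.Agent.Transfer.PResidual
import Cfsg.Agent.BlocksB.ResidualFixedCount
import Cfsg.Agent.FitMod.GoodVec

/-!
# Reduction of the groups to local characteristic two
-/

set_option autoImplicit false
set_option linter.style.haveILetI false
set_option linter.unusedSectionVars false

namespace CfsgLib.ZCGroup

open Subgroup
open CfsgLib.TwoNilCent (core Big odd_core core_le elem_of_sq sq_of_elem Four core_conj core_le_gen
  map_gen_le allComplete conj_into)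

variable {G : Type*} [Group G] [Finite G]

/-- A Sylow 2-subgroup meets a normal subgroup in a Sylow 2-subgroup. -/
theorem exists_sylow_inf (S : Sylow 2 G) (R : Subgroup G) [hR : R.Normal] :
    ∃ P : Sylow 2 ↥R, (P : Subgroup ↥R) = (S : Subgroup G).subgroupOf R := by
  haveI : Fact (Nat.Prime 2) := ⟨Nat.prime_two⟩
  have hp : IsPGroup 2 ((S : Subgroup G).subgroupOf R) :=
    S.2.comap_of_injective R.subtype R.subtype_injective
  obtain ⟨P, hP⟩ := hp.exists_le_sylow
  obtain ⟨S', hS'⟩ := (P.2.map R.subtype).exists_le_sylow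
  obtain ⟨g, hg⟩ := MulAction.exists_smul_eq G S' S
  refine ⟨P, (eq_of_le_of_card_ge hP ?_).symm⟩
  calc Nat.card (P : Subgroup ↥R)
      = Nat.card ↥(((P : Subgroup ↥R).map R.subtype).map (MulAut.conj g).toMonoidHom) := by
        rw [card_map_of_injective (f := (MulAut.conj g).toMonoidHom) (MulAut.conj g).injective,
          card_map_of_injective R.subtype_injective]
    _ ≤ Nat.card ↥(((S : Subgroup G).subgroupOf R).map R.subtype) := card_le_of_le (by
        rw [subgroupOf_map_subtype]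
        rintro _ ⟨x, ⟨y, hy, rfl⟩, rfl⟩
        refine ⟨?_, hR.conj_mem _ y.2 g⟩
        rw [← hg]
        exact ⟨(y : G), hS' ⟨y, hy, rfl⟩, rfl⟩)
    _ = _ := card_map_of_injective R.subtype_injective

section Residual

variable (heven : Even (Nat.card G)) (hO : Cfsg.pPrimeCore 2 G = ⊥) (hO2 : Cfsg.pCore 2 G = ⊥)

theorem residual_top : Cfsg.pResidual 2 ↥(Cfsg.pResidual 2 G) = ⊤ := by
  set R := Cfsg.pResidual 2 G with hR
  have h : R ≤ (Cfsg.pResidual 2 ↥R).map R.subtype := by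
    refine (closure_le _).2 fun g hg => ⟨⟨g, subset_closure hg⟩, ?_, rfl⟩
    refine subset_closure ?_
    show Nat.Coprime (orderOf (⟨g, subset_closure hg⟩ : R)) 2
    rw [← Subgroup.orderOf_coe]
    exact hg
  refine eq_top_iff.2 fun x _ => ?_
  obtain ⟨y, hy, he⟩ := h x.2
  exact (Subtype.ext he : y = x) ▸ hy

include heven hO hO2

theorem residual_even : Even (Nat.card ↥(Cfsg.pResidual 2 G)) := by
  haveI : Fact (Nat.Prime 2) := ⟨Nat.prime_two⟩
  by_contra hodd
  have h1 : Cfsg.pResidual 2 G ≤ ⊥ := hO ▸ Solvable.le_pPrimeCore 2 inferInstance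
    (Nat.coprime_two_right.2 (Nat.not_even_iff_odd.1 hodd))
  have hp : IsPGroup 2 G := fun g => by
    exact ⟨_, mem_bot.1 (h1 (PResidual.pow_mem_pResidual Nat.prime_two g))⟩
  have h2 : (⊤ : Subgroup G) ≤ ⊥ := hO2 ▸ Solvable.le_pCore 2 inferInstance
    (hp.of_equiv topEquiv.symm)
  have h3 : Nat.card G = 1 := by
    rw [← card_top (G := G), le_bot_iff.1 h2, card_bot]
  rw [h3] at heven
  exact absurd heven (by norm_num)

/-- A central involution of `S` lies in the residual. -/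
theorem exists_central_residual (S : Sylow 2 G) :
    ∃ z ∈ Cfsg.pResidual 2 G, z ∈ omegaZ (S : Subgroup G) ∧ orderOf z = 2 := by
  haveI : Fact (Nat.Prime 2) := ⟨Nat.prime_two⟩
  set R := Cfsg.pResidual 2 G
  obtain ⟨P, hP⟩ := exists_sylow_inf S R
  have hne : R.subgroupOf (S : Subgroup G) ≠ ⊥ := by
    intro h
    have h2 := P.dvd_card_of_dvd_card (even_iff_two_dvd.1 (residual_even heven hO hO2))
    rw [hP] at h2
    obtain ⟨⟨⟨x, hxR⟩, hxS⟩, hx⟩ := exists_prime_orderOf_dvd_card' 2 h2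
    have h3 : (⟨x, hxS⟩ : (S : Subgroup G)) ∈ R.subgroupOf (S : Subgroup G) := hxR
    rw [h, mem_bot] at h3
    rw [← Subgroup.orderOf_coe, ← Subgroup.orderOf_coe] at hx
    change orderOf x = 2 at hx
    rw [show x = 1 from congrArg Subtype.val h3, orderOf_one] at hx
    omega
  haveI := S.2.isNilpotent
  obtain ⟨w, hwR, hw1, hwZ⟩ := FitMod.exists_central_mem hne
  have hne' : (R.subgroupOf (S : Subgroup G) ⊓ center _).map (S : Subgroup G).subtype ≠ ⊥ := fun h =>
    hw1 (mem_bot.1 ((map_eq_bot_iff_of_injective _ (subtype_injective _)).1 h ▸ ⟨hwR, hwZ⟩))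
  obtain ⟨_, ⟨z, ⟨hzR, hzZ⟩, rfl⟩, hzo⟩ :=
    CharP.exists_orderOf_two (S.2.to_le (map_subtype_le _)) hne'
  exact ⟨_, hzR, ⟨z.2, fun s hs => congrArg Subtype.val (mem_center_iff.1 hzZ ⟨s, hs⟩),
    Invol.mul_self_eq_one hzo⟩, hzo⟩

end Residual

variable (heven : Even (Nat.card G)) (hC : Solv G)
  (hZ : ∀ S : Sylow 2 G, centralizer (omegaZ (S : Subgroup G) : Set G) ≤
    normalizer ((S : Subgroup G) : Set G))
  (hO : Cfsg.pPrimeCore 2 G = ⊥) (hO2 : Cfsg.pCore 2 G = ⊥)

include heven hC hZ hO hO2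

/-- The reduction, in terms of `omegaZ`. -/
theorem reduction (S : Sylow 2 G) :
    (∃ M : Subgroup ↥(Cfsg.pResidual 2 G), Cfsg.IsStronglyEmbedded M) ∨
      (Nat.card ↥(omegaZ (S : Subgroup G)) = 4 ∧
        Cfsg.omegaOne 2 ((S : Subgroup G) ⊓ Cfsg.pResidual 2 G) = omegaZ (S : Subgroup G)) ∨
      Cfsg.IsCharacteristicTwoType ↥(Cfsg.pResidual 2 G ⊔ omegaZ (S : Subgroup G)) := by
  haveI : Fact (Nat.Prime 2) := ⟨Nat.prime_two⟩
  set R := Cfsg.pResidual 2 G with hR
  set Z := omegaZ (S : Subgroup G) with hZdef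
  obtain ⟨z, hzR, hzZ, hzo⟩ := exists_central_residual heven hO hO2 S
  have hReven := residual_even heven hO hO2
  obtain ⟨P, hP⟩ := exists_sylow_inf S R
  have hOR : Cfsg.pPrimeCore 2 ↥R = ⊥ := pPrimeCore_normal_eq_bot hO
  have hO2R : Cfsg.pCore 2 ↥R = ⊥ := pCore_normal_eq_bot hO2
  by_cases h4 : Nat.card Z < 4
  · -- a single central involution
    have hZsub : Z ≤ zpowers z := by
      refine (eq_of_le_of_card_ge (zpowers_le.2 hzZ) ?_).ge
      rw [Nat.card_zpowers, hzo]
      obtain ⟨k, hk⟩ := IsPGroup.iff_card.1 (Signalizer.isPGroup (omegaZ_elem (S : Subgroup G)))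
      have hk' : Nat.card Z = 2 ^ k := hk
      rw [hk'] at h4 ⊢
      have hk2 : k < 2 := (Nat.pow_lt_pow_iff_right (by norm_num)).1
        (show 2 ^ k < 2 ^ 2 by norm_num; exact h4)
      exact (Nat.pow_le_pow_right (by norm_num) (show k ≤ 1 by omega)).trans (by norm_num)
    have key := one_central (G := ↥R) (solv_subgroup hC R) hOR hO2R residual_top P
      (z := ⟨z, hzR⟩) (by rw [← Subgroup.orderOf_coe]; exact hzo)
      (hP ▸ show z ∈ (S : Subgroup G) from hzZ.1)
      (fun s hs => Subtype.ext (hzZ.2.1 s (by rw [hP] at hs; exact hs)))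
      (fun c hc => by
        have hc' : Commute (c : G) z := congrArg Subtype.val (mem_centralizer_singleton_iff.1 hc)
        have h1 : (c : G) ∈ normalizer ((S : Subgroup G) : Set G) :=
          hZ S (mem_centralizer_iff.2 fun x hx => by
            rcases CharTwoPType.mem_zpowers_two hzo (hZsub hx) with rfl | rfl
            exacts [(Commute.one_left _).eq, hc'.symm.eq])
        rw [hP, mem_normalizer_iff]
        exact fun y => mem_normalizer_iff.1 h1 (y : G))
    rcases key with h | h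
    · exact Or.inl h
    · refine Or.inr (Or.inr ?_)
      rwa [sup_eq_left.2 (hZsub.trans (zpowers_le.2 hzR))]
  push Not at h4
  have hS : (S : Subgroup G) ≠ ⊥ := fun h => Invol.ne_one hzo (mem_bot.1 (h ▸ hzZ.1))
  by_cases hr : ∀ A : Subgroup G, Big A → ¬ A ≤ (S : Subgroup G)
  · -- 2-rank two
    have hZ4 : Nat.card Z = 4 := le_antisymm ((elem_dichotomy (omegaZ_elem _)).elim id
      fun h => absurd (omegaZ_le _) (hr Z h)) h4
    refine Or.inr (Or.inl ⟨hZ4, ?_⟩)
    set Y := Cfsg.omegaOne 2 ((S : Subgroup G) ⊓ R) with hY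
    have hYZ : Y ≤ Z := by
      refine (closure_le _).2 ?_
      rintro x ⟨⟨hxS, -⟩, hx2⟩
      by_contra hxZ
      obtain ⟨L, hL, hLS, -⟩ := big_of_invol (omegaZ_elem _) (omegaZ_le _) h4
        (Invol.orderOf_eq_two (by rwa [← sq]) fun h => hxZ (by rw [h]; exact one_mem Z)) hxS
        (fun k hk => hk.2.1 x hxS) hxZ
      exact hr L hL hLS
    obtain ⟨g, hgS, hgz⟩ : ∃ g : ↥R, g * ⟨z, hzR⟩ * g⁻¹ ∈ (P : Subgroup ↥R) ∧
        g * ⟨z, hzR⟩ * g⁻¹ ≠ ⟨z, hzR⟩ := by
      by_contra hcon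
      push Not at hcon
      exact false_of_isolated hOR hO2R P (u := ⟨z, hzR⟩) (by rw [← Subgroup.orderOf_coe]; exact hzo)
        (hP ▸ show z ∈ (S : Subgroup G) from hzZ.1) hcon
    set v : G := (g : G) * z * (g : G)⁻¹ with hv
    have hvo : orderOf v = 2 := by rw [hv, Invol.orderOf_conj_eq, hzo]
    have hvS : v ∈ (S : Subgroup G) := by
      rw [hP] at hgS
      exact hgS
    have hvY : v ∈ Y := subset_closure ⟨⟨hvS, (g * ⟨z, hzR⟩ * g⁻¹).2⟩,
      by rw [sq]; exact Invol.mul_self_eq_one hvo⟩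
    have hzY : z ∈ Y := subset_closure ⟨⟨hzZ.1, hzR⟩, by rw [sq]; exact hzZ.2.2⟩
    obtain ⟨-, hV4, -⟩ := pair_group hzo hvo (hzZ.2.1 v hvS)
      (fun h => hgz (Subtype.ext h))
    refine eq_of_le_of_card_ge hYZ ?_
    rw [hZ4, ← hV4]
    exact card_le_of_le (sup_le (zpowers_le.2 hvY) (zpowers_le.2 hzY))
  push Not at hr
  obtain ⟨A₀, hA₀, hA₀S⟩ := hr
  obtain ⟨F⟩ := TwoNilCent.nonempty_four S hA₀ hA₀S
  have hgood : ∀ t ∈ (S : Subgroup G), orderOf t = 2 →
      ∃ A : Subgroup G, Big A ∧ A ≤ (S : Subgroup G) ∧ t ∈ A := by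
    intro t htS ht
    by_cases htZ : t ∈ Z
    · exact F.exists_big_of_cent hA₀ hA₀S htS
        (mem_centralizer_iff.2 fun e he => htZ.2.1 e (F.le he)) ht
    · obtain ⟨L, hL, hLS, htL, -⟩ := big_of_invol (omegaZ_elem _) (omegaZ_le _) h4 ht htS
        (fun k hk => hk.2.1 t htS) htZ
      exact ⟨L, hL, hLS, htL⟩
  have hCtl : CentralCtl (S : Subgroup G) :=
    ⟨Z, fun h => Invol.ne_one hzo (mem_bot.1 (h ▸ hzZ : z ∈ (⊥ : Subgroup G))), fun x hx => hx.2.2,
      omegaZ_le _, fun s hs x hx => hx.2.1 s hs, hZ S⟩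
  set W := SFTCor.gen core A₀ with hW
  by_cases hW1 : W = ⊥
  · refine Or.inr (Or.inr ?_)
    set K := R ⊔ Z with hK
    haveI : K.Normal := by
      refine ⟨fun x hx g => ?_⟩
      have hg : g ∈ R ⊔ (S : Subgroup G) := by
        rw [ResidualFixedCount.residual_sup_sylow S]; exact mem_top g
      have hnorm : R ⊔ (S : Subgroup G) ≤ normalizer (K : Set G) := by
        refine sup_le ((le_sup_left : R ≤ K).trans le_normalizer) fun s hs => ?_
        refine mem_normalizer_of_map_le ?_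
        rw [hK, Subgroup.map_sup]
        refine sup_le_sup ?_ ?_
        · rintro _ ⟨r, hr, rfl⟩
          exact (inferInstance : R.Normal).conj_mem r hr s
        · rintro _ ⟨w, hw, rfl⟩
          show s * w * s⁻¹ ∈ Z
          rw [(hw.2.1 s hs).eq, mul_inv_cancel_right]
          exact hw
      exact (mem_normalizer_iff.1 (hnorm hg) x).1 hx
    refine charTwoType_of_cores (solv_subgroup hC K)
      (even_iff_two_dvd.2 ((even_iff_two_dvd.1 hReven).trans (card_dvd_of_le le_sup_left)))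
      fun t ht => core_subgroup_eq_bot ?_
    have hto : orderOf (t : G) = 2 := by rw [Subgroup.orderOf_coe, ht]
    obtain ⟨b, hb⟩ := exists_conj_mem S hto
    obtain ⟨A, hA, hAS, hbA⟩ := hgood _ hb (by rw [Invol.orderOf_conj_eq, hto])
    have h1 := (core_le_gen hbA (Invol.ne_one (by rw [Invol.orderOf_conj_eq, hto]))).trans
      (gen_eq_big hC hA hA₀ hAS hA₀S).le
    rw [← hW, hW1, core_conj, le_bot_iff, map_eq_bot_iff_of_injective (core (t : G))
      (f := (MulAut.conj b).toMonoidHom) (MulAut.conj b).injective] at h1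
    exact h1
  · have hNW := normalizer_le_normalizer_gen hC hA₀ hA₀S
    set M := normalizer (W : Set G) with hM
    have hne : M ≠ ⊤ := fun h => hW1 (le_bot_iff.1 (hO ▸ Solvable.le_pPrimeCore 2
      (normalizer_eq_top_iff.1 h) (Nat.coprime_two_right.2 (gen_complete hC hA₀).1)))
    have hSE : Cfsg.IsStronglyEmbedded M := stronglyEmbedded_of S hS M hne hNW fun t htS ht => by
      obtain ⟨A, hA, hAS, htA⟩ := hgood t htS ht
      rw [hM, hW, ← gen_eq_big hC hA hA₀ hAS hA₀S]
      exact cent_le_of_good hC hCtl hA htA ht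
    refine Or.inl ⟨M.subgroupOf R, stronglyEmbedded_subgroupOf hSE (fun hle => hne ?_)
      (even_iff_two_dvd.2 ?_)⟩
    · rw [eq_top_iff, ← ResidualFixedCount.residual_sup_sylow S]
      exact sup_le hle (le_normalizer.trans hNW)
    · rw [← hzo]
      exact orderOf_dvd_natCard _ ⟨hNW (le_normalizer hzZ.1), hzR⟩

end CfsgLib.ZCGroup
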