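import Cfsg.Agent.ZCGroup.Basic
import Cfsg.Agent.ZJ.Constrained

/-!
# Centralisers of involutions of 2-rank at least three lie in the uniqueness subgroup
-/

set_option autoImplicit false
set_option linter.style.haveILetI false
set_option linter.unusedSectionVars false

namespace CfsgLib.ZCGroup

open Subgroup
open CfsgLib.TwoNilCent (core Big odd_core core_le elem_of_sq sq_of_elem Four core_conj core_le_gen
  map_gen_le allComplete conj_into)

/-- A Sylow 2-subgroup of a solvable group meets `O_{2',2}` in a subgroup containing its centralizer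
in the Sylow subgroup, whose normaliser covers the quotient by the odd core. -/
theorem exists_constrained_part {X : Type*} [Group X] [Finite X] [Group.IsSolvable X]
    (T : Sylow 2 X) :
    ∃ Q : Subgroup X, Q ≤ (T : Subgroup X) ∧ (T : Subgroup X) ≤ normalizer (Q : Set X) ∧
      (∀ x : X, ∃ o ∈ Cfsg.pPrimeCore 2 X, o * x ∈ normalizer (Q : Set X)) ∧
      ∀ w ∈ (T : Subgroup X), (∀ q ∈ Q, Commute w q) → w ∈ Q := by
  haveI : Fact (Nat.Prime 2) := ⟨Nat.prime_two⟩
  set O := Cfsg.pPrimeCore 2 X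
  set f := QuotientGroup.mk' O with hf
  set F := Cfsg.pCore 2 (X ⧸ O) with hFdef
  set K := F.comap f with hKdef
  haveI hKn : K.Normal := (Solvable.pCore_normal 2).comap f
  have hTF : F ≤ (T : Subgroup X).map f := by
    rw [← Sylow.coe_mapSurjective (QuotientGroup.mk'_surjective O) T]
    exact Fitting.pCore_le_sylow _
  set Q := (T : Subgroup X) ⊓ K with hQdef
  have hQF : ∀ z ∈ F, ∃ q ∈ Q, f q = z := fun z hz => by
    obtain ⟨p, hp, rfl⟩ := hTF hz
    exact ⟨p, ⟨hp, hz⟩, rfl⟩
  have hKQ : Q ⊔ O = K := by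
    refine le_antisymm (sup_le inf_le_right fun o ho => ?_) fun k hk => ?_
    · show f o ∈ F
      rw [show f o = 1 from (QuotientGroup.eq_one_iff o).2 ho]
      exact one_mem _
    · obtain ⟨q, hq, he⟩ := hQF (f k) hk
      have h1 : q⁻¹ * k ∈ O := (QuotientGroup.eq_one_iff _).1
        (show f (q⁻¹ * k) = 1 by rw [map_mul, map_inv, he, inv_mul_cancel])
      have := mul_mem_sup hq h1
      rwa [mul_inv_cancel_left] at this
  refine ⟨Q, inf_le_left, fun p hp => ?_, fun x => ?_, fun w hw hc => ⟨hw, ?_⟩⟩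
  · rw [mem_normalizer_iff]
    intro y
    have h1 : y ∈ (T : Subgroup X) ↔ p * y * p⁻¹ ∈ (T : Subgroup X) :=
      mem_normalizer_iff.1 (le_normalizer hp) y
    have h2 : y ∈ K ↔ p * y * p⁻¹ ∈ K := mem_normalizer_iff.1 (le_normalizer_of_normal (mem_top p)) y
    exact and_congr h1 h2
  · refine ZJ.exists_mul_mem_normalizer (T.2.to_le inf_le_left)
      (Solvable.coprime_card_pPrimeCore 2) ?_
    rw [hKQ]
    exact le_normalizer_of_normal (mem_top x)
  · show f w ∈ F
    refine Signalizer.centralizer_pCore_quotient_le (mem_centralizer_iff.2 fun z hz => ?_)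
    obtain ⟨q, hq, rfl⟩ := hQF z hz
    rw [← map_mul, ← map_mul, (hc q hq).eq]

variable {G : Type*} [Group G] [Finite G]

/-- An elementary abelian subgroup of order at least 4 containing `a` and normalised by an
elementary abelian subgroup of order at least 8 containing `a` lies in one of order at least 8. -/
theorem exists_big_over {T A Y : Subgroup G} (hA : Big A) (hAT : A ≤ T) (hYT : Y ≤ T)
    (hY : Cfsg.IsElementaryAbelian 2 Y) (h4 : 4 ≤ Nat.card Y) {a : G} (ha : a ∈ A) (ha1 : a ≠ 1)
    (haY : a ∈ Y) (hn : A ≤ normalizer (Y : Set G)) :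
    ∃ L : Subgroup G, Big L ∧ L ≤ T ∧ Y ≤ L := by
  haveI : Fact (Nat.Prime 2) := ⟨Nat.prime_two⟩
  rcases elem_dichotomy hY with hY4 | hYb
  swap
  · exact ⟨Y, hYb, hYT, le_rfl⟩
  obtain ⟨b, hb, hb1, hba⟩ : ∃ b ∈ Y, b ≠ 1 ∧ b ≠ a := by
    by_contra hcon
    push Not at hcon
    have hsub : (Y : Set G) ⊆ {1, a} := fun y hy => by
      by_cases hy1 : y = 1
      · exact Or.inl hy1
      · exact Or.inr (hcon y hy hy1)
    have h2 := Set.ncard_le_ncard hsub (Set.toFinite _)
    rw [← Nat.card_coe_set_eq] at h2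
    have h3 : ({1, a} : Set G).ncard ≤ 2 := (Set.ncard_insert_le _ _).trans (by simp)
    change Nat.card Y ≤ _ at h2
    omega
  have haa := sq_of_elem hA.1 ha
  have hbb := sq_of_elem hY hb
  have hab : a * b ≠ 1 := fun h => hba (by
    rw [eq_inv_of_mul_eq_one_right h, inv_eq_of_mul_eq_one_right haa])
  have hset : (Y : Set G) = {1, a, b, a * b} := by
    refine (Set.eq_of_subset_of_ncard_le ?_ ?_ (Set.toFinite _)).symm
    · rintro y (rfl | rfl | rfl | rfl)
      exacts [one_mem _, haY, hb, mul_mem haY hb]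
    · rw [← Nat.card_coe_set_eq]
      change Nat.card Y ≤ _
      rw [Set.ncard_insert_of_notMem (by simp [ha1.symm, hb1.symm, hab.symm]),
        Set.ncard_insert_of_notMem (by simp [hba.symm, hb1]), Set.ncard_pair (by simp [ha1])]
      exact hY4
  have hconj : ∀ x ∈ A, x ∉ centralizer (Y : Set G) → x * b * x⁻¹ = a * b := by
    intro x hx hxY
    have hxa : x * a * x⁻¹ = a := by
      rw [Signalizer.commute hA.1 hx ha, mul_inv_cancel_right]
    have hmem : x * b * x⁻¹ ∈ (Y : Set G) := (mem_normalizer_iff.1 (hn hx) b).1 hb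
    rw [hset] at hmem
    rcases hmem with h | h | h | h
    · exact absurd (conj_eq_one_iff.1 h) hb1
    · exact absurd ((MulAut.conj x).injective (h.trans hxa.symm)) hba
    · refine absurd (mem_centralizer_iff.2 fun y hy => ?_) hxY
      have cb : Commute b x := (mul_inv_eq_iff_eq_mul.1 h).symm
      have ca : Commute a x := (mul_inv_eq_iff_eq_mul.1 hxa).symm
      rw [hset] at hy
      rcases hy with rfl | rfl | rfl | rfl
      exacts [(Commute.one_left x).eq, ca.eq, cb.eq, (ca.mul_left cb).eq]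
    · exact h
  have h8 := TwoNilCent.card_le_two_mul A (centralizer (Y : Set G)) fun x hx y hy hxY hyY => by
    refine mem_centralizer_iff.2 fun w hw => ?_
    have e1 : x * y * b * (x * y)⁻¹ = b := by
      calc x * y * b * (x * y)⁻¹ = x * (y * b * y⁻¹) * x⁻¹ := by group
        _ = (x * a * x⁻¹) * (x * b * x⁻¹) := by rw [hconj y hy hyY]; group
        _ = b := by
          rw [hconj x hx hxY, Signalizer.commute hA.1 hx ha, mul_inv_cancel_right, ← mul_assoc,
            haa, one_mul]
    have cb : Commute b (x * y) := (mul_inv_eq_iff_eq_mul.1 e1).symm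
    have ca : Commute a (x * y) := Signalizer.commute hA.1 ha (mul_mem hx hy)
    rw [hset] at hw
    rcases hw with rfl | rfl | rfl | rfl
    exacts [(Commute.one_left _).eq, ca.eq, cb.eq, (ca.mul_left cb).eq]
  set B := A ⊓ centralizer (Y : Set G)
  have h4B : 4 ≤ Nat.card B := by
    have := hA.2

    omega
  have hBY : Cfsg.IsElementaryAbelian 2 (B ⊔ Y : Subgroup G) :=
    OddCores.elementary_sup (Signalizer.of_le hA.1 inf_le_left) hY fun x hx y hy =>
      (mem_centralizer_iff.1 hx.2 y hy).symm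
  rcases elem_dichotomy hBY with h | h
  · have e : B = B ⊔ Y := eq_of_le_of_card_ge le_sup_left (h.trans h4B)
    exact ⟨A, hA, hAT, (le_sup_right.trans e.ge).trans inf_le_left⟩
  · exact ⟨B ⊔ Y, h, sup_le (inf_le_left.trans hAT) hYT, le_sup_right⟩

/-- The centraliser of an involution of an elementary abelian subgroup of order at least 8 lies in
the normaliser of the subgroup generated by the odd cores. -/
theorem cent_le_of_good (hC : Solv G) {S : Sylow 2 G} (hZ : CentralCtl (S : Subgroup G))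
    {A : Subgroup G} (hA : Big A) {a : G} (ha : a ∈ A) (ho : orderOf a = 2) :
    centralizer ({a} : Set G) ≤ normalizer (SFTCor.gen core A : Set G) := by
  haveI : Fact (Nat.Prime 2) := ⟨Nat.prime_two⟩
  set W := SFTCor.gen core A with hW
  set C := centralizer ({a} : Set G) with hCdef
  haveI := hC a ho
  have hAC : A ≤ C := Signalizer.le_centralizer_singleton hA.1 ha
  obtain ⟨T, hT⟩ := ((Signalizer.isPGroup hA.1).comap_of_injective C.subtype
    C.subtype_injective).exists_le_sylow
  set T' := (T : Subgroup C).map C.subtype with hT'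
  have hAT : A ≤ T' := fun x hx => ⟨⟨x, hAC hx⟩, hT hx, rfl⟩
  obtain ⟨S', hS'⟩ := (T.2.map C.subtype).exists_le_sylow
  have hAS' : A ≤ (S' : Subgroup G) := hAT.trans hS'
  have hTeq : ∀ x ∈ (S' : Subgroup G), x ∈ C → x ∈ T' := by
    intro x hx hxC
    have h1 : IsPGroup 2 ((S' : Subgroup G).comap C.subtype) :=
      S'.2.comap_of_injective C.subtype C.subtype_injective
    have h2 : (T : Subgroup C) ≤ (S' : Subgroup G).comap C.subtype := fun c hc => hS' ⟨c, hc, rfl⟩
    exact ⟨⟨x, hxC⟩, (T.3 h1 h2).le hx, rfl⟩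
  obtain ⟨Q, hQT, hTQ, hfrat, hself⟩ := exists_constrained_part T
  set Q' := Q.map C.subtype with hQ'
  set Y := omegaZ Q' with hY
  have hQ'T : Q' ≤ T' := map_mono hQT
  have haY : a ∈ Y := by
    have hc : ∀ c : C, Commute (⟨a, hAC ha⟩ : C) c := fun c =>
      Subtype.ext (mem_centralizer_singleton_iff.1 c.2).symm
    have haQ : (⟨a, hAC ha⟩ : C) ∈ Q := hself _ (hT ha) fun q _ => hc q
    refine ⟨⟨_, haQ, rfl⟩, ?_, sq_of_elem hA.1 ha⟩
    rintro _ ⟨q, -, rfl⟩
    exact mem_centralizer_singleton_iff.1 q.2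
  have hNS' := normalizer_le_normalizer_gen hC hA hAS'
  by_cases hY4 : 4 ≤ Nat.card Y
  · -- the general case
    have hYT : Y ≤ T' := (omegaZ_le Q').trans hQ'T
    have hYn : ∀ x : C, x ∈ normalizer (Q : Set C) → (x : G) ∈ normalizer (Y : Set G) := by
      intro x hx
      refine mem_normalizer_of_map_le ?_
      rintro _ ⟨y, ⟨hyQ, hyc, hy2⟩, rfl⟩
      obtain ⟨q, hq, rfl⟩ := hyQ
      refine ⟨⟨_, (mem_normalizer_iff.1 hx q).1 hq, rfl⟩, ?_, ?_⟩
      · rintro _ ⟨r, hr, rfl⟩
        have hr' : x⁻¹ * r * x ∈ Q := by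
          have := (mem_normalizer_iff.1 (inv_mem hx) r).1 hr
          rwa [inv_inv] at this
        have h1 := (hyc _ ⟨_, hr', rfl⟩).map (MulAut.conj (x : G)).toMonoidHom
        simpa [mul_assoc] using h1
      · rw [← map_mul, hy2, map_one]
    obtain ⟨L, hL, hLT, hYL⟩ := exists_big_over hA hAT hYT (omegaZ_elem Q') hY4 ha
      (Invol.ne_one ho) haY fun x hx => hYn ⟨x, hAC hx⟩ (hTQ (hT hx))
    have hWY : SFTCor.gen core Y = W := by
      rw [gen_eq hC hL hYL hY4]
      exact gen_eq_big hC hL hA (hLT.trans hS') hAS'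
    intro c hc
    obtain ⟨o, ho', hn⟩ := hfrat ⟨c, hc⟩
    have h1 : (o : G) ∈ W := core_le_gen ha (Invol.ne_one ho) ⟨o, ho', rfl⟩
    have h2 : ((o * ⟨c, hc⟩ : C) : G) ∈ normalizer (W : Set G) := by
      have h3 := hYn _ hn
      refine mem_normalizer_of_map_le ?_
      rw [← hWY]
      refine (map_gen_le Y _).trans (le_of_eq ?_)
      rw [show Y.map (MulAut.conj ((o * ⟨c, hc⟩ : C) : G)).toMonoidHom = Y from ?_]
      refine eq_of_le_of_card_ge ?_
        (card_map_of_injective (f := (MulAut.conj ((o * ⟨c, hc⟩ : C) : G)).toMonoidHom)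
          (MulAut.conj _).injective).ge
      rintro _ ⟨y, hy, rfl⟩
      exact (mem_normalizer_iff.1 h3 y).1 hy
    have h4 := mul_mem (inv_mem (le_normalizer h1)) h2
    simpa [mul_assoc] using h4
  · -- `a` is the only central involution
    obtain ⟨Z, hZ1, hZ2, hZS, hZc, hZN⟩ := centralCtl_all hZ S'
    have haS' : a ∈ (S' : Subgroup G) := hAS' ha
    have hZle : ∀ z ∈ Z, z = 1 ∨ z = a := by
      intro z hz
      by_contra hcon
      push Not at hcon
      have hzC : z ∈ C := mem_centralizer_singleton_iff.2 (hZc a haS' z hz).eq.symm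
      obtain ⟨⟨w, hwC⟩, hwT, hwe⟩ := hTeq z (hZS hz) hzC
      change w = z at hwe
      subst hwe
      have hwQ : (⟨w, hwC⟩ : C) ∈ Q := hself _ hwT fun q hq =>
        Subtype.ext (hZc _ (hS' ⟨q, hQT hq, rfl⟩) _ hz).eq.symm
      have hwY : w ∈ Y := ⟨⟨_, hwQ, rfl⟩, fun s hs => hZc s (hS' (hQ'T hs)) w hz, hZ2 w hz⟩
      have hsub : ({1, a, w} : Set G) ⊆ (Y : Set G) := by
        rintro y (rfl | rfl | rfl)
        exacts [one_mem _, haY, hwY]
      have h3 : ({1, a, w} : Set G).ncard = 3 := by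
        rw [Set.ncard_insert_of_notMem (by simp [(Invol.ne_one ho).symm, Ne.symm hcon.1]),
          Set.ncard_pair (Ne.symm hcon.2)]
      have h4 : 3 ≤ Nat.card Y := h3 ▸ Set.ncard_le_ncard hsub (Set.toFinite _)
      obtain ⟨k, hk⟩ := IsPGroup.iff_card.1 (Signalizer.isPGroup (omegaZ_elem Q'))
      change Nat.card Y = _ at hk
      have hk2 : 2 ≤ k := by
        by_contra hlt
        have h5 := Nat.pow_le_pow_right (show 1 ≤ 2 by norm_num) (show k ≤ 1 by omega)
        omega
      exact hY4 (hk ▸ le_trans (by norm_num) (Nat.pow_le_pow_right (show 1 ≤ 2 by norm_num) hk2))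
    refine fun c hc => hNS' (hZN (mem_centralizer_iff.2 fun z hz => ?_))
    rcases hZle z hz with rfl | rfl
    · simp
    · exact (mem_centralizer_singleton_iff.1 hc).symm

end CfsgLib.ZCGroup
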