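import Cfsg.Agent.ZCGroup.Cent
import Cfsg.Agent.S0107
import Cfsg.Agent.S1238
import Cfsg.Agent.S1248
import Cfsg.Agent.Invol.CentralizerPattern
import Cfsg.Agent.A8Rec.Setup
import Mathlib.FieldTheory.Finite.GaloisField

/-!
# The case of a single central involution
-/

set_option autoImplicit false
set_option linter.style.haveILetI false
set_option linter.unusedSectionVars false

namespace CfsgLib.ZCGroup

open Subgroup
open CfsgLib.TwoNilCent (core Big odd_core core_le elem_of_sq sq_of_elem Four core_conj core_le_gen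
  map_gen_le allComplete conj_into)

variable {G : Type*} [Group G] [Finite G]

theorem not_isolated (hO : Cfsg.pPrimeCore 2 G = ⊥) (hO2 : Cfsg.pCore 2 G = ⊥) (z : G) :
    ¬ Cfsg.IsIsolatedInvolution z := by
  intro hz
  haveI : Fact (Nat.Prime 2) := ⟨Nat.prime_two⟩
  obtain ⟨N, hN, hodd, hc⟩ := ZStar.zstar hz
  have hN1 : N ≤ ⊥ := hO ▸ Solvable.le_pPrimeCore 2 hN (Nat.coprime_two_right.2 hodd)
  have hcen : ∀ g : G, Commute z g := fun g => by
    have h1 := mem_bot.1 (hN1 (hc g))
    rwa [mul_inv_eq_one, mul_inv_eq_iff_eq_mul] at h1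
  have hn : (zpowers z).Normal := ⟨fun x hx g => by
    obtain ⟨i, rfl⟩ := mem_zpowers_iff.1 hx
    rw [((hcen g).zpow_left i).symm.eq, mul_inv_cancel_right]
    exact zpow_mem (mem_zpowers z) i⟩
  have h : zpowers z ≤ ⊥ := hO2 ▸ Solvable.le_pCore 2 hn
    (IsPGroup.of_card (n := 1) (by rw [Nat.card_zpowers, hz.1, pow_one]))
  exact Invol.ne_one hz.1 (mem_bot.1 (h (mem_zpowers z)))

/-- The four-group spanned by two commuting involutions. -/
theorem pair_group {z t : G} (hz : orderOf z = 2) (ht : orderOf t = 2) (hc : Commute t z)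
    (hne : t ≠ z) : Cfsg.IsElementaryAbelian 2 (zpowers t ⊔ zpowers z : Subgroup G) ∧
      Nat.card ↥(zpowers t ⊔ zpowers z : Subgroup G) = 4 ∧
      ∀ v ∈ zpowers t ⊔ zpowers z, v = 1 ∨ v = z ∨ v = t ∨ v = t * z := by
  haveI : Fact (Nat.Prime 2) := ⟨Nat.prime_two⟩
  have hcomm : ∀ x ∈ zpowers t, ∀ y ∈ zpowers z, x * y = y * x := fun x hx y hy => by
    obtain ⟨i, rfl⟩ := mem_zpowers_iff.1 hx
    obtain ⟨j, rfl⟩ := mem_zpowers_iff.1 hy
    exact ((hc.zpow_left i).zpow_right j).eq
  have he : Cfsg.IsElementaryAbelian 2 (zpowers t ⊔ zpowers z : Subgroup G) :=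
    OddCores.elementary_sup (CharTwoPType.elementary_zpowers (Invol.mul_self_eq_one ht))
      (CharTwoPType.elementary_zpowers (Invol.mul_self_eq_one hz)) hcomm
  refine ⟨he, ?_, fun v hv => ?_⟩
  · rw [Signalizer.card_sup_zpowers he le_sup_right (mem_sup_left (mem_zpowers t)) fun h =>
      (CharTwoPType.mem_zpowers_two hz h).elim (Invol.ne_one ht) hne, Nat.card_zpowers, hz]
  · have hn : zpowers t ≤ normalizer (zpowers z : Set G) :=
      Signalizer.le_normalizer_of_conj_mem fun x hx y hy => by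
        rwa [hcomm x hx y hy, mul_inv_cancel_right]
    obtain ⟨x, hx, y, hy, rfl⟩ := (CfsgLib.Solvable.mem_sup_of_le_normalizer hn).1 hv
    rcases CharTwoPType.mem_zpowers_two ht hx with rfl | rfl <;>
      rcases CharTwoPType.mem_zpowers_two hz hy with rfl | rfl
    · exact Or.inl (one_mul 1)
    · exact Or.inr (Or.inl (one_mul _))
    · exact Or.inr (Or.inr (Or.inl (mul_one _)))
    · exact Or.inr (Or.inr (Or.inr rfl))

section

variable (hC : Solv G) {S : Sylow 2 G} {z : G} (hz : orderOf z = 2) (hzS : z ∈ (S : Subgroup G))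
  (hzc : ∀ s ∈ (S : Subgroup G), Commute s z)
  (hzN : centralizer ({z} : Set G) ≤ normalizer ((S : Subgroup G) : Set G))

include hzS hzc hzN hz

theorem centralCtl_of_z : CentralCtl (S : Subgroup G) := by
  refine ⟨zpowers z, fun h => Invol.ne_one hz (zpowers_eq_bot.1 h), fun x hx => ?_,
    zpowers_le.2 hzS, fun s hs x hx => ?_, ?_⟩
  · rcases CharTwoPType.mem_zpowers_two hz hx with rfl | rfl
    exacts [mul_one 1, Invol.mul_self_eq_one hz]
  · obtain ⟨i, rfl⟩ := mem_zpowers_iff.1 hx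
    exact (hzc s hs).zpow_right i
  · rwa [zpowers_eq_closure, centralizer_closure]

/-- The odd core of `C(z)` centralises `S`. -/
theorem core_comm {x s : G} (hx : x ∈ core z) (hs : s ∈ (S : Subgroup G)) : Commute x s := by
  haveI : Fact (Nat.Prime 2) := ⟨Nat.prime_two⟩
  have hsz : s ∈ centralizer ({z} : Set G) := mem_centralizer_singleton_iff.2 (hzc s hs).eq
  have h1 : x * s * x⁻¹ * s⁻¹ ∈ core z := by
    rw [show x * s * x⁻¹ * s⁻¹ = x * (s * x⁻¹ * s⁻¹) by group]
    exact mul_mem hx ((mem_normalizer_iff.1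
      (Signalizer.centralizer_le_normalizer_centralizerPPrimeCore z hsz) _).1 (inv_mem hx))
  have h2 : x * s * x⁻¹ * s⁻¹ ∈ (S : Subgroup G) :=
    mul_mem ((mem_normalizer_iff.1 (hzN (core_le z hx)) s).1 hs) (inv_mem hs)
  have h3 := TwoNilCent.eq_one_of_odd_two S.2 h2 (TwoNilCent.odd_of_mem (odd_core z) h1)
  rwa [mul_inv_eq_one, mul_inv_eq_iff_eq_mul] at h3

include hC

theorem core_eq_of_conj {t h : G} (htS : t ∈ (S : Subgroup G)) (ht : orderOf t = 2)
    (he : h * z * h⁻¹ = t) : core t = core z := by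
  refine (eq_of_le_of_card_ge (fun x hx => balance hC hz ht (hzc t htS).eq.symm
    ⟨hx, mem_centralizer_singleton_iff.2 (core_comm hz hzS hzc hzN hx htS).eq⟩) ?_).symm
  rw [← he, core_conj,
    card_map_of_injective (f := (MulAut.conj h).toMonoidHom) (MulAut.conj h).injective]

/-- All involutions conjugate to `z`: strongly embedded or characteristic two type. -/
theorem of_one_class (hO : Cfsg.pPrimeCore 2 G = ⊥)
    (hall : ∀ s ∈ (S : Subgroup G), orderOf s = 2 → ∃ g : G, g * z * g⁻¹ = s) :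
    (∃ M : Subgroup G, Cfsg.IsStronglyEmbedded M) ∨ Cfsg.IsCharacteristicTwoType G := by
  haveI : Fact (Nat.Prime 2) := ⟨Nat.prime_two⟩
  by_cases hD : core z = ⊥
  · refine Or.inr (charTwoType_of_cores hC (even_iff_two_dvd.2 (hz ▸ orderOf_dvd_natCard z))
      fun t ht => ?_)
    obtain ⟨b, hb⟩ := exists_conj_mem S ht
    obtain ⟨g, hg⟩ := hall _ hb (by rw [Invol.orderOf_conj_eq, ht])
    have e : t = (b⁻¹ * g) * z * (b⁻¹ * g)⁻¹ := by
      rw [show (b⁻¹ * g) * z * (b⁻¹ * g)⁻¹ = b⁻¹ * (g * z * g⁻¹) * b by group, hg]; group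
    rw [e, core_conj, hD, Subgroup.map_bot]
  · refine Or.inl ⟨normalizer (core z : Set G), stronglyEmbedded_of S
      (fun h => Invol.ne_one hz (mem_bot.1 (h ▸ hzS))) _ (fun h => hD ?_) (fun n hn => ?_)
      fun t htS ht => ?_⟩
    · exact le_bot_iff.1 (hO ▸ Solvable.le_pPrimeCore 2 (normalizer_eq_top_iff.1 h)
        (Nat.coprime_two_right.2 (odd_core z)))
    · refine mem_normalizer_of_map_le (le_of_eq ?_)
      rw [← core_conj]
      exact core_eq_of_conj hC hz hzS hzc hzN ((mem_normalizer_iff.1 hn z).1 hzS)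
        (by rw [Invol.orderOf_conj_eq, hz]) rfl
    · obtain ⟨g, hg⟩ := hall t htS ht
      rw [← core_eq_of_conj hC hz hzS hzc hzN htS ht hg]
      exact Signalizer.centralizer_le_normalizer_centralizerPPrimeCore t

/-- In 2-rank two all involutions are conjugate. -/
theorem all_conj_of_rank_two (hO : Cfsg.pPrimeCore 2 G = ⊥) (hO2 : Cfsg.pCore 2 G = ⊥)
    (hres : Cfsg.pResidual 2 G = ⊤) (hr : ∀ A : Subgroup G, Big A → ¬ A ≤ (S : Subgroup G)) :
    ∀ s ∈ (S : Subgroup G), orderOf s = 2 → ∃ g : G, g * z * g⁻¹ = s := by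
  classical
  haveI : Fact (Nat.Prime 2) := ⟨Nat.prime_two⟩
  have hno := fun H => CfsgLib.A8Rec.index_ne_two hres H
  obtain ⟨g, hgS, hgz⟩ : ∃ g : G, g * z * g⁻¹ ∈ (S : Subgroup G) ∧ g * z * g⁻¹ ≠ z := by
    by_contra hcon
    push Not at hcon
    exact false_of_isolated hO hO2 S hz hzS hcon
  set v := g * z * g⁻¹ with hv
  have hvo : orderOf v = 2 := by rw [hv, Invol.orderOf_conj_eq, hz]
  obtain ⟨hVe, hV4, -⟩ := pair_group hz hvo (hzc v hgS) hgz
  by_cases htwo : ∃ w ∈ omegaZ (S : Subgroup G), w ≠ 1 ∧ w ≠ z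
  · obtain ⟨w, hw, hw1, hwz⟩ := htwo
    set K := omegaZ (S : Subgroup G) with hK
    have hwo : orderOf w = 2 := Invol.orderOf_eq_two hw.2.2 hw1
    obtain ⟨hWe, hW4, -⟩ := pair_group hz hwo (hzc w hw.1) hwz
    have hzK : z ∈ K := ⟨hzS, hzc, Invol.mul_self_eq_one hz⟩
    have hWK : zpowers w ⊔ zpowers z ≤ K := sup_le (zpowers_le.2 hw) (zpowers_le.2 hzK)
    have hK4 : 4 ≤ Nat.card K := hW4 ▸ card_le_of_le hWK
    have hK4' : Nat.card K ≤ 4 := (elem_dichotomy (omegaZ_elem _)).elim id
      fun h => absurd (omegaZ_le _) (hr K h)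
    have hallK : ∀ s ∈ (S : Subgroup G), orderOf s = 2 → s ∈ K := by
      intro s hs hso
      by_contra hsK
      obtain ⟨L, hL, hLS, -⟩ := big_of_invol (omegaZ_elem _) (omegaZ_le _) hK4 hso hs
        (fun k hk => hk.2.1 s hs) hsK
      exact hr L hL hLS
    have hcent : ∀ x ∈ K, x ∈ centralizer ((S : Subgroup G) : Set G) := fun x hx =>
      mem_centralizer_iff.2 fun s hs => hx.2.1 s hs
    have hvK := hallK v hgS hvo
    obtain ⟨n, hn, hnz⟩ := Sylow.conj_eq_normalizer_conj_of_mem_centralizer S z g⁻¹ (hcent z hzK)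
      (by rw [inv_inv]; exact hcent v hvK)
    rw [inv_inv] at hnz
    have hm : n⁻¹ ∈ normalizer ((S : Subgroup G) : Set G) := inv_mem hn
    set m := n⁻¹ with hmdef
    have hmz : m * z * m⁻¹ = v := by rw [hmdef, inv_inv]; exact hnz.symm
    set u := m * v * m⁻¹ with hu
    have huS : u ∈ (S : Subgroup G) := (mem_normalizer_iff.1 hm v).1 hgS
    have huo : orderOf u = 2 := by rw [hu, Invol.orderOf_conj_eq, hvo]
    have huv : u ≠ v := fun h => hgz ((MulAut.conj m).injective (h.trans hmz.symm))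
    have huz : u ≠ z := by
      intro h
      have h2 : Commute (m * m) z := by
        refine mul_inv_eq_iff_eq_mul.1 ?_
        rw [show m * m * z * (m * m)⁻¹ = m * (m * z * m⁻¹) * m⁻¹ by group, hmz, ← hu, h]
      obtain ⟨k, r, hr2, hkr⟩ := Nat.exists_eq_pow_mul_and_not_dvd (orderOf_pos m).ne' 2 (by norm_num)
      obtain ⟨j, rfl⟩ := (Nat.not_even_iff_odd.1 fun he => hr2 he.two_dvd : Odd r)
      have hp : IsPGroup 2 (zpowers (m ^ (2 * j + 1))) := by
        rintro ⟨x, hx⟩
        obtain ⟨i, rfl⟩ := mem_zpowers_iff.1 hx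
        refine ⟨k, Subtype.ext ?_⟩
        show ((m ^ (2 * j + 1)) ^ i) ^ 2 ^ k = 1
        rw [← zpow_natCast ((m ^ (2 * j + 1)) ^ i), zpow_comm, zpow_natCast, ← pow_mul,
          mul_comm (2 * j + 1), ← hkr, pow_orderOf_eq_one, one_zpow]
      have h3 : Commute (m ^ (2 * j + 1)) z :=
        hzc _ (le_sylow_of_le_normalizer S hp (zpowers_le.2 (pow_mem hm _)) (mem_zpowers _))
      have h4 : Commute m z := by
        have h5 : m = m ^ (2 * j + 1) * ((m * m) ^ j)⁻¹ := by
          rw [← sq, ← pow_mul, pow_succ', mul_inv_cancel_right]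
        rw [h5]
        exact h3.mul_left (h2.pow_left j).inv_left
      exact hgz (by rw [← hmz, h4.eq, mul_inv_cancel_right])
    have hset : (K : Set G) = {1, z, v, u} := by
      refine (Set.eq_of_subset_of_ncard_le ?_ ?_ (Set.toFinite _)).symm
      · rintro y (rfl | rfl | rfl | rfl)
        exacts [one_mem _, hzK, hvK, hallK _ huS huo]
      · rw [← Nat.card_coe_set_eq]
        change Nat.card K ≤ _
        rw [Set.ncard_insert_of_notMem (by
            simp [(Invol.ne_one hz).symm, (Invol.ne_one hvo).symm, (Invol.ne_one huo).symm]),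
          Set.ncard_insert_of_notMem (by simp [Ne.symm hgz, huz.symm]), Set.ncard_pair huv.symm]
        exact hK4'
    intro s hs hso
    have hsK : s ∈ (K : Set G) := hallK s hs hso
    rw [hset] at hsK
    rcases hsK with rfl | rfl | rfl | rfl
    · exact absurd rfl (Invol.ne_one hso)
    · exact ⟨1, by simp⟩
    · exact ⟨g, rfl⟩
    · refine ⟨m * g, ?_⟩
      rw [hu, hv]; group
  -- a single central involution
  have hcomm : ¬ ∀ x y : ↥(S : Subgroup G), x * y = y * x := fun h => htwo ⟨v, ⟨hgS,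
    fun s hs => congrArg Subtype.val (h ⟨s, hs⟩ ⟨v, hgS⟩), Invol.mul_self_eq_one hvo⟩,
    Invol.ne_one hvo, hgz⟩
  have h2 : Cfsg.PRankLE 2 2 G := by
    intro A hA hA2
    have hAe : Cfsg.IsElementaryAbelian 2 A := ⟨hA, hA2⟩
    rcases elem_dichotomy hAe with h | h
    · exact h.trans (by norm_num)
    · obtain ⟨R, hR⟩ := (Signalizer.isPGroup hAe).exists_le_sylow
      obtain ⟨b, hb⟩ := MulAction.exists_smul_eq G R S
      refine absurd ?_ (hr _ (h.map b))
      rw [← hb]
      exact map_mono hR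
  have h1 : ¬ Cfsg.PRankLE 2 1 G := fun h => by
    have := h _ hVe.1 hVe.2
    rw [hV4] at this
    norm_num at this
  haveI : Fintype (GaloisField 2 4) := Fintype.ofFinite _
  have hF : Fintype.card (GaloisField 2 4) = 16 := by
    rw [← Nat.card_eq_fintype_card, GaloisField.card 2 4 (by norm_num)]; norm_num
  let P : Sylow 2 (Cfsg.PSU 3 (GaloisField 2 4) 4) := default
  intro s hs hso
  rcases Cfsg.Agent.S1238.result h2 h1 hno (not_isolated hO hO2) S hF P with
    ⟨m, hm, ⟨e⟩⟩ | hq | hw | ⟨n, -, ⟨e⟩⟩ | hU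
  · obtain ⟨k, hk⟩ := IsPGroup.iff_card.1 S.2
    rw [Nat.card_congr e.toEquiv, DihedralGroup.nat_card] at hk
    rcases Nat.lt_or_ge k 3 with hk3 | hk3
    · have hm2 : m = 2 := by
        have := Nat.pow_le_pow_right (show 1 ≤ 2 by norm_num) (show k ≤ 2 by omega)
        omega
      subst hm2
      exact absurd (fun x y => e.injective (by
        rw [map_mul, map_mul]
        exact (by decide : ∀ a b : DihedralGroup 2, a * b = b * a) _ _)) hcomm
    · obtain ⟨d, rfl⟩ : ∃ d, k = d + 1 := ⟨k - 1, by omega⟩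
      have hmd : m = 2 ^ d := by rw [pow_succ] at hk; omega
      subst hmd
      exact Cfsg.Agent.S0107.result S d (by omega) ⟨e⟩ hres z s hz hso
  · exact isConj_iff.1 (InvolPattern.isConj_of_one_class (InvolPattern.qd_one_class hno S hq).1 hz hso)
  · exact isConj_iff.1
      (InvolPattern.isConj_of_one_class (InvolPattern.wreath_one_class hno S hw).1 hz hso)
  · exact absurd (fun x y => e.injective (by rw [map_mul, map_mul, mul_comm])) hcomm
  · obtain ⟨e⟩ := hU
    obtain ⟨-, hK, -⟩ := Cfsg.Agent.S1248.result hF P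
    have hZ4 : Nat.card (center ↥(S : Subgroup G)) = 4 :=
      (Nat.card_congr (centerCongr e).toEquiv).trans hK.card_four
    obtain ⟨c, hc1, hcz⟩ : ∃ c : center ↥(S : Subgroup G), c ≠ 1 ∧
        ((c : ↥(S : Subgroup G)) : G) ≠ z := by
      by_contra hcon
      push Not at hcon
      have : Nat.card (center ↥(S : Subgroup G)) ≤ 2 := by
        refine le_trans (Nat.card_le_card_of_injective
          (fun c : center ↥(S : Subgroup G) => decide (c = 1)) fun a b hab => ?_) (by simp)
        by_cases ha : a = 1 <;> by_cases hb : b = 1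
        · rw [ha, hb]
        · simp [ha, hb] at hab
        · simp [ha, hb] at hab
        · exact Subtype.ext (Subtype.ext ((hcon a ha).trans (hcon b hb).symm))
      omega
    have hcc : (centerCongr e c) * (centerCongr e c) = 1 := by
      rw [← IsKleinFour.mul_self (G := center _) (centerCongr e c)]
    refine absurd ⟨((c : ↥(S : Subgroup G)) : G), ⟨(c : ↥(S : Subgroup G)).2, fun x hx =>
      congrArg Subtype.val (mem_center_iff.1 c.2 ⟨x, hx⟩), ?_⟩, fun h => hc1 (Subtype.ext
      (Subtype.ext h)), hcz⟩ htwo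
    have h5 : c * c = 1 := (centerCongr e).injective (by rw [map_mul, hcc, map_one])
    exact congrArg (fun x : center ↥(S : Subgroup G) => ((x : ↥(S : Subgroup G)) : G)) h5

end

end CfsgLib.ZCGroup
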