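import Cfsg.Agent.ZCGroup.One
import Cfsg.Agent.S0111

/-!
# A single central involution in 2-rank at least three
-/

set_option autoImplicit false
set_option linter.style.haveILetI false
set_option linter.unusedSectionVars false

namespace CfsgLib.ZCGroup

open Subgroup
open CfsgLib.TwoNilCent (core Big odd_core core_le elem_of_sq sq_of_elem Four core_conj core_le_gen
  map_gen_le allComplete conj_into exists_norm)

variable {G : Type*} [Group G] [Finite G]

section

variable (hC : Solv G) {S : Sylow 2 G} {z : G} (hz : orderOf z = 2) (hzS : z ∈ (S : Subgroup G))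
  (hzc : ∀ s ∈ (S : Subgroup G), Commute s z)
  (hzN : centralizer ({z} : Set G) ≤ normalizer ((S : Subgroup G) : Set G))

include hC hz hzS hzc hzN

/-- An odd subgroup normalised by `z` inside the centraliser of a conjugate of `z` commuting with
`z` is centralised by `z`. -/
theorem inf_cent_le {W : Subgroup G} (hW : Odd (Nat.card W)) (hWn : z ∈ normalizer (W : Set G))
    {v h : G} (hv : h * z * h⁻¹ = v) (hvz : Commute v z) :
    W ⊓ centralizer ({v} : Set G) ≤ centralizer ({z} : Set G) := by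
  haveI : Fact (Nat.Prime 2) := ⟨Nat.prime_two⟩
  intro x hx
  set S' : Sylow 2 G := h • S
  have key : centralizer ({v} : Set G) ≤ normalizer ((S' : Subgroup G) : Set G) := by
    intro c hc
    have h1 : h⁻¹ * c * h ∈ normalizer ((S : Subgroup G) : Set G) := by
      refine hzN (mem_centralizer_singleton_iff.2 ?_)
      calc h⁻¹ * c * h * z = h⁻¹ * (c * (h * z * h⁻¹)) * h := by group
        _ = h⁻¹ * ((h * z * h⁻¹) * c) * h := by rw [hv, mem_centralizer_singleton_iff.1 hc]
        _ = z * (h⁻¹ * c * h) := by group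
    refine le_normalizer_map (H := (S : Subgroup G)) (MulAut.conj h).toMonoidHom
      ⟨_, h1, show h * (h⁻¹ * c * h) * h⁻¹ = c by group⟩
  have hzS' : z ∈ (S' : Subgroup G) := mem_sylow_of_normalizer S' (Invol.mul_self_eq_one hz)
    (key (mem_centralizer_singleton_iff.2 hvz.symm.eq))
  have h1 : x * z * x⁻¹ * z⁻¹ ∈ W := by
    rw [show x * z * x⁻¹ * z⁻¹ = x * (z * x⁻¹ * z⁻¹) by group]
    exact mul_mem hx.1 ((mem_normalizer_iff.1 hWn _).1 (inv_mem hx.1))
  have h2 : x * z * x⁻¹ * z⁻¹ ∈ (S' : Subgroup G) :=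
    mul_mem ((mem_normalizer_iff.1 (key hx.2) z).1 hzS') (inv_mem hzS')
  have h3 := TwoNilCent.eq_one_of_odd_two S'.2 h2 (TwoNilCent.odd_of_mem hW h1)
  rw [mul_inv_eq_one, mul_inv_eq_iff_eq_mul] at h3
  exact mem_centralizer_singleton_iff.2 h3

variable {A₀ : Subgroup G} (hA₀ : Big A₀) (hA₀S : A₀ ≤ (S : Subgroup G))
  (hres : Cfsg.pResidual 2 G = ⊤)

include hA₀ hA₀S hres

/-- Every involution of `S` outside all elementary abelian subgroups of order 8 of `S` is conjugate
to one inside, has centraliser in the uniqueness subgroup. -/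
theorem bad_invol {t : G} (htS : t ∈ (S : Subgroup G)) (ht : orderOf t = 2)
    (hbad : ¬ ∃ A : Subgroup G, Big A ∧ A ≤ (S : Subgroup G) ∧ t ∈ A) :
    (∃ (g : G) (A : Subgroup G), Big A ∧ A ≤ (S : Subgroup G) ∧ g * t * g⁻¹ ∈ A) ∧
      centralizer ({t} : Set G) ≤ normalizer (SFTCor.gen core A₀ : Set G) := by
  haveI : Fact (Nat.Prime 2) := ⟨Nat.prime_two⟩
  set W := SFTCor.gen core A₀ with hW
  obtain ⟨F⟩ := TwoNilCent.nonempty_four S hA₀ hA₀S
  have hno := fun H => CfsgLib.A8Rec.index_ne_two hres H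
  -- the involutions of `C_S(t)`
  have hthree : ∀ w ∈ (S : Subgroup G), orderOf w = 2 → Commute w t → w = z ∨ w = t ∨ w = t * z := by
    intro w hw hwo hwt
    by_contra hcon
    have htz : t ≠ z := fun h => by
      obtain ⟨L, hL, hLS, htL⟩ := F.exists_big_of_cent hA₀ hA₀S htS
        (mem_centralizer_iff.2 fun e he => by rw [h]; exact hzc e (F.le he)) ht
      exact hbad ⟨L, hL, hLS, htL⟩
    obtain ⟨hVe, hV4, hVmem⟩ := pair_group hz ht (hzc t htS) htz
    obtain ⟨L, hL, hLS, -, hVL⟩ := big_of_invol hVe (sup_le (zpowers_le.2 htS) (zpowers_le.2 hzS))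
      hV4.ge hwo hw (fun k hk => by
        rcases hVmem k hk with rfl | rfl | rfl | rfl
        exacts [Commute.one_right w, hzc w hw, hwt, hwt.mul_right (hzc w hw)])
      (fun h => by
        rcases hVmem w h with h' | h'
        · exact Invol.ne_one hwo h'
        · exact hcon h')
    exact hbad ⟨L, hL, hLS, hVL (mem_sup_left (mem_zpowers t))⟩
  have htE : t ∉ centralizer (F.E : Set G) := fun h =>
    hbad (F.exists_big_of_cent hA₀ hA₀S htS h ht)
  have hFz : F.z = z := by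
    rcases hthree F.z (F.le F.z_mem) (Invol.orderOf_eq_two (sq_of_elem F.elem F.z_mem) F.z_ne)
      (F.z_comm t htS).symm with h | h | h
    · exact h
    · exact absurd (h ▸ F.le_cent F.z_mem) htE
    · refine absurd ?_ htE
      have h1 : t * z ∈ centralizer (F.E : Set G) := h ▸ F.le_cent F.z_mem
      have h2 : z ∈ centralizer (F.E : Set G) := mem_centralizer_iff.2 fun e he => hzc e (F.le he)
      have := mul_mem h1 (inv_mem h2)
      rwa [mul_inv_cancel_right] at this
  -- fusion into the good involutions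
  obtain ⟨g₁, A, hA, hAS, htA⟩ : ∃ (g : G) (A : Subgroup G), Big A ∧ A ≤ (S : Subgroup G) ∧
      g * t * g⁻¹ ∈ A := by
    set Q := (S : Subgroup G) ⊓ centralizer (F.E : Set G)
    have hQ2 : Q.relIndex (S : Subgroup G) = 2 := by
      rw [relIndex, index_eq_two_iff]
      refine ⟨⟨_, htS⟩, fun ⟨c, hcS⟩ => ?_⟩
      have hmem : ∀ s : (S : Subgroup G), s ∈ Q.subgroupOf (S : Subgroup G) ↔
          (s : G) ∈ centralizer (F.E : Set G) := fun s => ⟨fun h => h.2, fun h => ⟨s.2, h⟩⟩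
      rw [hmem, hmem]
      show Xor (c * t ∈ centralizer (F.E : Set G)) (c ∈ centralizer (F.E : Set G))
      by_cases hcE : c ∈ centralizer (F.E : Set G)
      · exact Or.inr ⟨hcE, fun h => htE ((mul_mem_cancel_left hcE).1 h)⟩
      · exact Or.inl ⟨F.prod c hcS _ htS hcE htE, hcE⟩
    rcases Cfsg.Agent.S0111.result S Q inf_le_left hQ2 t ht htS (fun h => htE h.2) with
      ⟨M, -, hM, -⟩ | ⟨g, hg⟩
    · exact absurd hM (hno M)
    · obtain ⟨L, hL, hLS, htL⟩ := F.exists_big_of_cent hA₀ hA₀S hg.1 hg.2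
        (by rw [Invol.orderOf_conj_eq, ht])
      exact ⟨g, L, hL, hLS, htL⟩
  refine ⟨⟨g₁, A, hA, hAS, htA⟩, ?_⟩
  -- `t` is conjugate to `tz`
  set C := centralizer ({t} : Set G) with hCdef
  set T₀ := (S : Subgroup G) ⊓ C with hT₀
  have htC : t ∈ C := mem_centralizer_singleton_iff.2 rfl
  have hzC : z ∈ C := mem_centralizer_singleton_iff.2 (hzc t htS).symm.eq
  obtain ⟨n, hnS, hnT₀, hnorm⟩ := exists_norm S.2 (inf_le_left : T₀ ≤ (S : Subgroup G)) (by
    intro hle
    refine htE (mem_centralizer_iff.2 fun e he => ?_)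
    exact mem_centralizer_singleton_iff.1 (hle (F.le he)).2)
  have hnt : n * t * n⁻¹ = t * z := by
    have h1 := hnorm t ⟨htS, htC⟩
    rcases hthree (n * t * n⁻¹) h1.1 (by rw [Invol.orderOf_conj_eq, ht])
      (mem_centralizer_singleton_iff.1 h1.2) with h | h | h
    · exfalso
      have : t = n⁻¹ * z * n := by rw [← h]; group
      rw [(hzc n⁻¹ (inv_mem hnS)).eq, inv_mul_cancel_right] at this
      exact htE (this ▸ mem_centralizer_iff.2 fun e he => hzc e (F.le he))
    · exact absurd ⟨hnS, mem_centralizer_singleton_iff.2 (mul_inv_eq_iff_eq_mul.1 h)⟩ hnT₀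
    · exact h
  -- `t` is conjugate to `z`
  obtain ⟨h₀, hh₀⟩ : ∃ h : G, h * z * h⁻¹ = t := by
    set B := A.map (MulAut.conj g₁⁻¹).toMonoidHom with hB
    have htB : t ∈ B := ⟨g₁ * t * g₁⁻¹, htA, show g₁⁻¹ * (g₁ * t * g₁⁻¹) * g₁⁻¹⁻¹ = t by group⟩
    have hBC : B ≤ C := Signalizer.le_centralizer_singleton (hA.map g₁⁻¹).1 htB
    obtain ⟨T, hT⟩ := ((S.2.to_le (inf_le_left : T₀ ≤ _)).comap_of_injective C.subtype
      C.subtype_injective).exists_le_sylow
    obtain ⟨R, hR⟩ := ((Signalizer.isPGroup (hA.map g₁⁻¹).1).comap_of_injective C.subtype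
      C.subtype_injective).exists_le_sylow
    obtain ⟨c, hc⟩ := MulAction.exists_smul_eq C R T
    set T' := (T : Subgroup C).map C.subtype with hT'
    set B' := B.map (MulAut.conj (c : G)).toMonoidHom with hB'
    have hB'T : B' ≤ T' := by
      rintro _ ⟨x, hx, rfl⟩
      have h1 : c * ⟨x, hBC hx⟩ * c⁻¹ ∈ (T : Subgroup C) := by
        rw [← hc]
        exact smul_mem_pointwise_smul _ (MulAut.conj c) (R : Subgroup C)
          (hR (show (⟨x, hBC hx⟩ : C) ∈ B.comap C.subtype from hx))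
      exact ⟨_, h1, rfl⟩
    have htB' : t ∈ B' := ⟨t, htB, show (c : G) * t * (c : G)⁻¹ = t by
      rw [mem_centralizer_singleton_iff.1 c.2, mul_inv_cancel_right]⟩
    obtain ⟨S', hS'⟩ := (T.2.map C.subtype).exists_le_sylow
    obtain ⟨b, hb⟩ := MulAction.exists_smul_eq G S S'
    set z' := b * z * b⁻¹ with hz'
    have hz'S : z' ∈ (S' : Subgroup G) := by rw [← hb]; exact ⟨z, hzS, rfl⟩
    have hz'c : ∀ s ∈ (S' : Subgroup G), Commute s z' := by
      rw [← hb]
      rintro _ ⟨s, hs, rfl⟩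
      exact (hzc s hs).map (MulAut.conj b).toMonoidHom
    have hT₀T : T₀ ≤ T' := fun x hx => ⟨⟨x, hx.2⟩, hT hx, rfl⟩
    have hzT : z ∈ T' := hT₀T ⟨hzS, hzC⟩
    have hz'o : orderOf z' = 2 := by rw [hz', Invol.orderOf_conj_eq, hz]
    have hz'2 : z' ∈ (S : Subgroup G) := mem_sylow_of_normalizer S (Invol.mul_self_eq_one hz'o)
      (hzN (mem_centralizer_singleton_iff.2 (hz'c z (hS' hzT)).symm.eq))
    rcases hthree z' hz'2 hz'o (hz'c t (hS' (hB'T htB'))).symm with h | h | h
    · exfalso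
      have hTS : T' ≤ (S : Subgroup G) := le_sylow_of_le_normalizer S (T.2.map C.subtype)
        fun x hx => hzN (mem_centralizer_singleton_iff.2 (by rw [← h]; exact (hz'c x (hS' hx)).eq))
      exact hbad ⟨B', (hA.map g₁⁻¹).map _, hB'T.trans hTS, htB'⟩
    · exact ⟨b, h⟩
    · exact ⟨n⁻¹ * b, by rw [show n⁻¹ * b * z * (n⁻¹ * b)⁻¹ = n⁻¹ * (b * z * b⁻¹) * n by group,
        ← hz', h, ← hnt]; group⟩
  have htz' : n * h₀ * z * (n * h₀)⁻¹ = t * z := by rw [← hnt, ← hh₀]; group
  -- generation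
  have hzW : z ∈ normalizer (W : Set G) :=
    normalizer_le_normalizer_gen hC hA₀ hA₀S (le_normalizer hzS)
  have htW : t ∈ normalizer (W : Set G) :=
    normalizer_le_normalizer_gen hC hA₀ hA₀S (le_normalizer htS)
  have hWodd : Odd (Nat.card W) := (gen_complete hC hA₀).1
  obtain ⟨L, hL, hLS, hzL⟩ := F.exists_big_of_cent hA₀ hA₀S hzS
    (mem_centralizer_iff.2 fun e he => hzc e (F.le he)) hz
  have hWL : W = SFTCor.gen core L := gen_eq_big hC hA₀ hL hA₀S hLS
  have hWz : W ⊓ centralizer ({z} : Set G) = core z := by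
    rw [hWL]; exact (gen_complete hC hL).2 z hzL (Invol.ne_one hz)
  obtain ⟨hVe, hV4, hVmem⟩ := pair_group hz ht (hzc t htS)
    (fun h => htE (h ▸ mem_centralizer_iff.2 fun e he => hzc e (F.le he)))
  have hWD : W = core z := by
    refine le_antisymm ?_ (hWz ▸ inf_le_left)
    refine Signalizer.le_of_forall_centralizer hVe le_rfl (by rw [hV4]; norm_num)
      (sup_le (zpowers_le.2 htW) (zpowers_le.2 hzW)) hWodd.not_two_dvd_nat fun e he he1 => ?_
    rw [← hWz]
    rcases hVmem e he with h | h | h | h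
    · exact absurd h he1
    · exact h ▸ le_rfl
    · exact h ▸ le_inf inf_le_left (inf_cent_le hC hz hzS hzc hzN hWodd hzW hh₀ (hzc t htS))
    · exact h ▸ le_inf inf_le_left (inf_cent_le hC hz hzS hzc hzN hWodd hzW htz'
        ((hzc t htS).mul_left (Commute.refl z)))
  rw [hWD, ← core_eq_of_conj hC hz hzS hzc hzN htS ht hh₀]
  exact Signalizer.centralizer_le_normalizer_centralizerPPrimeCore t

end

/-- The case of a single central involution. -/
theorem one_central (hC : Solv G) (hO : Cfsg.pPrimeCore 2 G = ⊥) (hO2 : Cfsg.pCore 2 G = ⊥)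
    (hres : Cfsg.pResidual 2 G = ⊤) (S : Sylow 2 G) {z : G} (hz : orderOf z = 2)
    (hzS : z ∈ (S : Subgroup G)) (hzc : ∀ s ∈ (S : Subgroup G), Commute s z)
    (hzN : centralizer ({z} : Set G) ≤ normalizer ((S : Subgroup G) : Set G)) :
    (∃ M : Subgroup G, Cfsg.IsStronglyEmbedded M) ∨ Cfsg.IsCharacteristicTwoType G := by
  haveI : Fact (Nat.Prime 2) := ⟨Nat.prime_two⟩
  by_cases hr : ∀ A : Subgroup G, Big A → ¬ A ≤ (S : Subgroup G)
  · exact of_one_class hC hz hzS hzc hzN hO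
      (all_conj_of_rank_two hC hz hzS hzc hzN hO hO2 hres hr)
  push Not at hr
  obtain ⟨A₀, hA₀, hA₀S⟩ := hr
  set W := SFTCor.gen core A₀ with hW
  have hgood : ∀ {s : G} {A : Subgroup G}, Big A → A ≤ (S : Subgroup G) → s ∈ A → orderOf s = 2 →
      core s ≤ W := fun hA hAS hsA hs => (core_le_gen hsA (Invol.ne_one hs)).trans
    (gen_eq_big hC hA hA₀ hAS hA₀S).le
  by_cases hW1 : W = ⊥
  · refine Or.inr (charTwoType_of_cores hC (even_iff_two_dvd.2 (hz ▸ orderOf_dvd_natCard z))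
      fun x hx => ?_)
    obtain ⟨b, hb⟩ := exists_conj_mem S hx
    have hbo : orderOf (b * x * b⁻¹) = 2 := by rw [Invol.orderOf_conj_eq, hx]
    obtain ⟨g, A, hA, hAS, hsA⟩ : ∃ (g : G) (A : Subgroup G), Big A ∧ A ≤ (S : Subgroup G) ∧
        g * x * g⁻¹ ∈ A := by
      by_cases hgd : ∃ A : Subgroup G, Big A ∧ A ≤ (S : Subgroup G) ∧ b * x * b⁻¹ ∈ A
      · exact ⟨b, hgd⟩
      · obtain ⟨⟨g, A, h1, h2, h3⟩, -⟩ := bad_invol hC hz hzS hzc hzN hA₀ hA₀S hres hb hbo hgd
        exact ⟨g * b, A, h1, h2, by rwa [show g * b * x * (g * b)⁻¹ = g * (b * x * b⁻¹) * g⁻¹ by group]⟩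
    have h1 := hgood hA hAS hsA (by rw [Invol.orderOf_conj_eq, hx])
    rw [hW1, core_conj, le_bot_iff,
      map_eq_bot_iff_of_injective (core x) (f := (MulAut.conj g).toMonoidHom) (MulAut.conj g).injective] at h1
    exact h1
  · refine Or.inl ⟨normalizer (W : Set G), stronglyEmbedded_of S
      (fun h => Invol.ne_one hz (mem_bot.1 (h ▸ hzS))) _ (fun h => hW1 ?_)
      (normalizer_le_normalizer_gen hC hA₀ hA₀S) fun t htS ht => ?_⟩
    · exact le_bot_iff.1 (hO ▸ Solvable.le_pPrimeCore 2 (normalizer_eq_top_iff.1 h)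
        (Nat.coprime_two_right.2 (gen_complete hC hA₀).1))
    · by_cases hgd : ∃ A : Subgroup G, Big A ∧ A ≤ (S : Subgroup G) ∧ t ∈ A
      · obtain ⟨A, hA, hAS, htA⟩ := hgd
        rw [hW, ← gen_eq_big hC hA hA₀ hAS hA₀S]
        exact cent_le_of_good hC (centralCtl_of_z hz hzS hzc hzN) hA htA ht
      · exact (bad_invol hC hz hzS hzc hzN hA₀ hA₀S hres htS ht hgd).2

end CfsgLib.ZCGroup
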